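import Groth.Agent.Grpd.FlatComp
import Groth.Agent.S0386
import Mathlib.AlgebraicGeometry.Morphisms.Etale
import Mathlib.AlgebraicGeometry.Morphisms.FinitePresentation
import Mathlib.RingTheory.Unramified.Finite
import Mathlib.RingTheory.Flat.FaithfullyFlat.Algebra

/-!
# Flatness of a morphism at a point
-/

universe u

open CategoryTheory CategoryTheory.Limits AlgebraicGeometry

namespace Groth.Agent.FibreFlat

/-- `f` is flat at `x` -/
abbrev FlatAt {X Y : Scheme.{u}} (f : X ⟶ Y) (x : X) : Prop := (f.stalkMap x).hom.Flat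

variable {W X Y : Scheme.{u}}

theorem flatAt_of_flat (f : X ⟶ Y) [Flat f] (x : X) : FlatAt f x := Flat.stalkMap f x

theorem flatAt_comp {q : W ⟶ X} {g : X ⟶ Y} {u : W} (hq : FlatAt q u) (hg : FlatAt g (q u)) :
    FlatAt (q ≫ g) u := by
  change ((q ≫ g).stalkMap u).hom.Flat
  refine (congrArg RingHom.Flat (congrArg CommRingCat.Hom.hom (Scheme.Hom.stalkMap_comp q g u))).mpr ?_
  exact hg.comp hq

theorem flatAt_of_comp {q : W ⟶ X} {g : X ⟶ Y} {u : W} (hq : FlatAt q u) (h : FlatAt (q ≫ g) u) :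
    FlatAt g (q u) := by
  let : Algebra (Y.presheaf.stalk (g (q u))) (X.presheaf.stalk (q u)) := (g.stalkMap (q u)).hom.toAlgebra
  let : Algebra (X.presheaf.stalk (q u)) (W.presheaf.stalk u) := (q.stalkMap u).hom.toAlgebra
  let : Algebra (Y.presheaf.stalk (g (q u))) (W.presheaf.stalk u) := ((q ≫ g).stalkMap u).hom.toAlgebra
  have : IsScalarTower (Y.presheaf.stalk (g (q u))) (X.presheaf.stalk (q u)) (W.presheaf.stalk u) :=
    .of_algebraMap_eq' (congrArg CommRingCat.Hom.hom (Scheme.Hom.stalkMap_comp q g u))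
  have : Module.Flat (Y.presheaf.stalk (g (q u))) (W.presheaf.stalk u) := h
  have : Module.FaithfullyFlat (X.presheaf.stalk (q u)) (W.presheaf.stalk u) :=
    @Module.FaithfullyFlat.of_flat_of_isLocalHom _ _ _ _ _ _ _ hq (q.toLRSHom.prop u)
  exact GrpdLib.moduleFlat_of_comp _ _ (W.presheaf.stalk u)

/-- flatness can be cancelled along an etale morphism on the target -/
theorem flatAt_cancel_etale {q : W ⟶ X} {g : X ⟶ Y} [Etale g] {u : W} (h : FlatAt (q ≫ g) u) :
    FlatAt q u := by
  let : Algebra (Y.presheaf.stalk (g (q u))) (X.presheaf.stalk (q u)) := (g.stalkMap (q u)).hom.toAlgebra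
  let : Algebra (X.presheaf.stalk (q u)) (W.presheaf.stalk u) := (q.stalkMap u).hom.toAlgebra
  let : Algebra (Y.presheaf.stalk (g (q u))) (W.presheaf.stalk u) := ((q ≫ g).stalkMap u).hom.toAlgebra
  have : IsScalarTower (Y.presheaf.stalk (g (q u))) (X.presheaf.stalk (q u)) (W.presheaf.stalk u) :=
    .of_algebraMap_eq' (congrArg CommRingCat.Hom.hom (Scheme.Hom.stalkMap_comp q g u))
  have : Module.Flat (Y.presheaf.stalk (g (q u))) (W.presheaf.stalk u) := h
  have : Algebra.FormallyUnramified (Y.presheaf.stalk (g (q u))) (X.presheaf.stalk (q u)) :=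
    FormallyUnramified.stalkMap g (q u)
  have : Algebra.EssFiniteType (Y.presheaf.stalk (g (q u))) (X.presheaf.stalk (q u)) :=
    LocallyOfFiniteType.stalkMap g (q u)
  exact Algebra.FormallyUnramified.flat_of_restrictScalars (Y.presheaf.stalk (g (q u)))
    (X.presheaf.stalk (q u)) (W.presheaf.stalk u)

/-- flatness at a point is etale local on source and target -/
theorem flatAt_iff_of_etale {U V U' V' : Scheme.{u}} {h : U ⟶ V} {h' : U' ⟶ V'} {k : U' ⟶ U} {l : V' ⟶ V}
    [Etale k] [Etale l] (w : k ≫ h = h' ≫ l) (u : U') : FlatAt h (k u) ↔ FlatAt h' u := by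
  refine ⟨fun e => flatAt_cancel_etale (g := l) ?_, fun e => flatAt_of_comp (flatAt_of_flat k u) ?_⟩
  · rw [← w]
    exact flatAt_comp (flatAt_of_flat k u) e
  · rw [w]
    exact flatAt_comp e (flatAt_of_flat l _)

/-- the open set where a morphism locally of finite presentation is flat -/
noncomputable def flatOpen (f : X ⟶ Y) [LocallyOfFinitePresentation f] : X.Opens :=
  ⟨{x | FlatAt f x}, Groth.Agent.S0386.result f⟩

theorem mem_flatOpen {f : X ⟶ Y} [LocallyOfFinitePresentation f] {x : X} : x ∈ flatOpen f ↔ FlatAt f x := Iff.rfl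

theorem flat_flatOpen (f : X ⟶ Y) [LocallyOfFinitePresentation f] : Flat ((flatOpen f).ι ≫ f) :=
  Flat.of_stalkMap _ fun x => flatAt_comp (flatAt_of_flat _ x) x.2

theorem flatAt_of_isPullback {X' Y' : Scheme.{u}} {f : X ⟶ Y} {f' : X' ⟶ Y'} {gX : X' ⟶ X} {gY : Y' ⟶ Y}
    (sq : IsPullback gX f' f gY) [LocallyOfFinitePresentation f] {x : X'} (h : FlatAt f (gX x)) :
    FlatAt f' x := by
  have sq' := (IsPullback.of_hasPullback (flatOpen f).ι gX).paste_vert sq.flip.flip
  have hflat : Flat (pullback.snd (flatOpen f).ι gX ≫ f') :=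
    MorphismProperty.of_isPullback sq' (flat_flatOpen f)
  obtain ⟨p, -, rfl⟩ := Scheme.Pullback.exists_preimage_pullback (f := (flatOpen f).ι) (g := gX) ⟨gX x, h⟩ x rfl
  exact flatAt_of_comp (flatAt_of_flat _ p) (flatAt_of_flat _ p)

end Groth.Agent.FibreFlat
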