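import Groth.Agent.FibreFlat.PointCrit
import Groth.Agent.LimDesc.FPCancel
import Groth.Prelude.Def_AlgSpMor5

/-!
# The flat locus of a morphism of algebraic spaces over a base
-/

set_option backward.isDefEq.respectTransparency false

universe u

open CategoryTheory CategoryTheory.Limits AlgebraicGeometry AlgSp Opposite
open Groth.Agent.AlgSpLib

namespace Groth.Agent.FibreFlat

variable {S : Scheme.{u}}

/-- one chart diagram suffices for flatness at a point -/
theorem isFlatAtMor_iff_chart {X Y : Sp S} (hX : IsAlgSpace X) (hY : IsAlgSpace Y) {f : X ⟶ Y} {U V : Over S}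
    {a : (yon S).obj U ⟶ X} {b : (yon S).obj V ⟶ Y} {h : U ⟶ V} (ha : RepWith @Etale a)
    (hb : RepWith @Etale b) (comm : a ≫ f = (yon S).map h ≫ b) (u : ↥U.left) :
    IsFlatAtMor f (Points.ofPt a u) ↔ FlatAt h.left u := by
  refine ⟨fun H => H a b h u ha hb comm rfl, fun e U' V' a' b' h' u' ha' hb' comm' hu' => ?_⟩
  obtain ⟨U'', k, k', sqU⟩ := exists_pullback hX.diag a a'
  obtain ⟨V'', l, l', sqV⟩ := exists_pullback hY.diag b b'
  obtain ⟨w, hw, hw'⟩ := (ofPt_eq_iff sqU u u').1 hu'.symm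
  have e1 : ((yon S).map k ≫ (yon S).map h) ≫ b = ((yon S).map k' ≫ (yon S).map h') ≫ b' := by
    rw [Category.assoc, ← comm, Category.assoc, ← comm', ← Category.assoc, ← Category.assoc, sqU.w]
  obtain ⟨h'', hh''⟩ := exists_map_eq (sqV.lift _ _ e1)
  have c1 : k ≫ h = h'' ≫ l := (yon S).map_injective (by
    rw [Functor.map_comp, Functor.map_comp, hh'', sqV.lift_fst])
  have c2 : k' ≫ h' = h'' ≫ l' := (yon S).map_injective (by
    rw [Functor.map_comp, Functor.map_comp, hh'', sqV.lift_snd])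
  have : Etale k.left := (repWith_yon_iff _).1 (repWith_baseChange sqU.flip ha')
  have : Etale k'.left := (repWith_yon_iff _).1 (repWith_baseChange sqU ha)
  have : Etale l.left := (repWith_yon_iff _).1 (repWith_baseChange sqV.flip hb')
  have : Etale l'.left := (repWith_yon_iff _).1 (repWith_baseChange sqV hb)
  have h1 : FlatAt h''.left w :=
    (flatAt_iff_of_etale (congrArg (fun m => m.left) c1) w).1 (by rw [hw]; exact e)
  have h2 := (flatAt_iff_of_etale (congrArg (fun m => m.left) c2) w).2 h1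
  rwa [hw'] at h2

theorem isOpen_flatLocus {X Y Z : Sp S} (hX : IsAlgSpace X) (hY : IsAlgSpace Y) (hZ : IsAlgSpace Z)
    (f : X ⟶ Y) (h : Y ⟶ Z) (hfp : LocP @LocallyOfFinitePresentation (f ≫ h))
    (hft : LocP @LocallyOfFiniteType h) : IsOpen {x : Points X | IsFlatAtMor f x} := by
  obtain ⟨W, c, hce, hcs⟩ := hZ.atlas
  obtain ⟨V, b, k, hbe, hbs, hk⟩ := exists_chart_lift hY hZ h hce hcs
  obtain ⟨U, a, g, hae, has, hg⟩ := exists_chart_lift hX hY f hbe hbs
  have : LocallyOfFiniteType k.left := hft b c k hbe hce hk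
  have : LocallyOfFinitePresentation (g.left ≫ k.left) := hfp a c (g ≫ k) hae hce (by
    rw [← Category.assoc, hg, Category.assoc, hk, Functor.map_comp, Category.assoc])
  have : LocallyOfFinitePresentation g.left := LimDesc.lfp_of_comp g.left k.left
  have : {x : Points X | IsFlatAtMor f x} = Points.ofPt a '' (flatOpen g.left : Set ↥U.left) := by
    ext x
    obtain ⟨u, rfl⟩ := ofPt_surjective has x
    refine ⟨fun hu => ⟨u, (isFlatAtMor_iff_chart hX hY hae hbe hg u).1 hu, rfl⟩, ?_⟩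
    rintro ⟨u', hu', e⟩
    rw [← e]
    exact (isFlatAtMor_iff_chart hX hY hae hbe hg u').2 hu'
  rw [this]
  exact isOpenMap_ofPt (repWith_universallyOpen_of_etale hae) _ (flatOpen g.left).isOpen

/-- the chart of a base change -/
theorem chart_baseChange (P : MorphismProperty Scheme.{u}) [P.IsStableUnderBaseChange]
    [P.IsStableUnderComposition] [P.RespectsIso]
    {Y Z Y' Z' : Sp S} {h : Y ⟶ Z} {h' : Y' ⟶ Z'} {g : Z' ⟶ Z} {pY : Y' ⟶ Y} (sq : IsPullback pY h' h g)
    {V₀ W' V'' : Over S} {b₀ : (yon S).obj V₀ ⟶ Y} {p : (yon S).obj W' ⟶ Z'} {v : V'' ⟶ V₀} {k'' : V'' ⟶ W'}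
    (sqV : IsPullback ((yon S).map v) ((yon S).map k'') (b₀ ≫ h) (p ≫ g))
    (hb : RepWith P b₀) (hp : RepWith P p) :
    RepWith P (sq.lift ((yon S).map v ≫ b₀) ((yon S).map k'' ≫ p) (by
      rw [Category.assoc, sqV.w, Category.assoc])) := by
  have sq2 := IsPullback.of_hasPullback h (p ≫ g)
  let t₁ : pullback h (p ≫ g) ⟶ Y' := sq.lift (pullback.fst h (p ≫ g)) (pullback.snd h (p ≫ g) ≫ p)
    (by rw [Category.assoc]; exact sq2.w)
  have sqt₁ : IsPullback (pullback.snd h (p ≫ g)) t₁ p h' := by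
    refine (IsPullback.of_right (h₁₂ := pY) (v₁₃ := h) (h₂₂ := g) ?_ (sq.lift_snd _ _ _) sq).flip
    rw [sq.lift_fst]
    exact sq2
  let t₀ : (yon S).obj V'' ⟶ pullback h (p ≫ g) :=
    pullback.lift ((yon S).map v ≫ b₀) ((yon S).map k'') (by rw [Category.assoc]; exact sqV.w)
  have sqt₀ : IsPullback ((yon S).map v) t₀ b₀ (pullback.fst h (p ≫ g)) := by
    refine IsPullback.of_bot ?_ (pullback.lift_fst _ _ _).symm sq2
    rw [pullback.lift_snd]
    exact sqV
  have e : sq.lift ((yon S).map v ≫ b₀) ((yon S).map k'' ≫ p) (by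
      rw [Category.assoc, sqV.w, Category.assoc]) = t₀ ≫ t₁ := by
    apply sq.hom_ext <;>
      simp [t₀, t₁, IsPullback.lift_fst, IsPullback.lift_snd, pullback.lift_fst, pullback.lift_snd_assoc]
  rw [e]
  exact repWith_comp (repWith_baseChange sqt₀ hb) (repWith_baseChange sqt₁ hp)

theorem flatLocus_baseChange {X Y Z X' Y' Z' : Sp S} (hX : IsAlgSpace X) (hY : IsAlgSpace Y)
    (hZ : IsAlgSpace Z) (hX' : IsAlgSpace X') (hY' : IsAlgSpace Y') (hZ' : IsAlgSpace Z')
    {f : X ⟶ Y} {h : Y ⟶ Z} (hfp : LocP @LocallyOfFinitePresentation (f ≫ h))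
    (hfl : LocP @Flat (f ≫ h)) (hft : LocP @LocallyOfFiniteType h)
    {g : Z' ⟶ Z} {f' : X' ⟶ Y'} {h' : Y' ⟶ Z'} {pX : X' ⟶ X} {pY : Y' ⟶ Y}
    (sqY : IsPullback pY h' h g) (sqX : IsPullback pX f' f pY) :
    {x' : Points X' | IsFlatAtMor f' x'} = Points.map pX ⁻¹' {x | IsFlatAtMor f x} := by
  obtain ⟨W, c, hce, hcs⟩ := hZ.atlas
  obtain ⟨W', p, α, hpe, hps, hp⟩ := exists_chart_lift hZ' hZ g hce hcs
  obtain ⟨V₀, b₀, hb₀e, hb₀s⟩ := hY.atlas
  obtain ⟨U₀, a₀, k₀, ha₀e, ha₀s, hk₀⟩ := exists_chart_lift hX hY f hb₀e hb₀s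
  obtain ⟨V, v₀, k, sqV⟩ := exists_pullback hZ.diag (b₀ ≫ h) c
  obtain ⟨U, u₀, kU, sqU⟩ := exists_pullback hZ.diag (a₀ ≫ f ≫ h) c
  obtain ⟨V'', v, k'', sqV''⟩ := exists_pullback hZ.diag (b₀ ≫ h) (p ≫ g)
  obtain ⟨U'', w, kU'', sqU''⟩ := exists_pullback hZ.diag (a₀ ≫ f ≫ h) (p ≫ g)
  have sqXZ : IsPullback pX (f' ≫ h') (f ≫ h) g := sqX.paste_vert sqY
  -- maps to the base charts
  obtain ⟨v', hv'⟩ := exists_map_eq (sqV.lift ((yon S).map v) ((yon S).map k'' ≫ (yon S).map α)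
    (by rw [sqV''.w, Category.assoc, hp]))
  obtain ⟨w', hw'⟩ := exists_map_eq (sqU.lift ((yon S).map w) ((yon S).map kU'' ≫ (yon S).map α)
    (by rw [sqU''.w, Category.assoc, hp]))
  have eU : ((yon S).map u₀ ≫ (yon S).map k₀) ≫ b₀ ≫ h = (yon S).map kU ≫ c := by
    rw [Category.assoc, ← reassoc_of% hk₀]
    exact sqU.w
  have eU'' : ((yon S).map w ≫ (yon S).map k₀) ≫ b₀ ≫ h = (yon S).map kU'' ≫ p ≫ g := by
    rw [Category.assoc, ← reassoc_of% hk₀]
    exact sqU''.w
  obtain ⟨m, hm⟩ := exists_map_eq (sqV.lift _ _ eU)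
  obtain ⟨m'', hm''⟩ := exists_map_eq (sqV''.lift _ _ eU'')
  have hm1 : m ≫ v₀ = u₀ ≫ k₀ := (yon S).map_injective (by rw [Functor.map_comp, hm, sqV.lift_fst, Functor.map_comp])
  have hm2 : m ≫ k = kU := (yon S).map_injective (by rw [Functor.map_comp, hm, sqV.lift_snd])
  have hm1'' : m'' ≫ v = w ≫ k₀ := (yon S).map_injective (by rw [Functor.map_comp, hm'', sqV''.lift_fst, Functor.map_comp])
  have hm2'' : m'' ≫ k'' = kU'' := (yon S).map_injective (by rw [Functor.map_comp, hm'', sqV''.lift_snd])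
  have hv1 : v' ≫ v₀ = v := (yon S).map_injective (by rw [Functor.map_comp, hv', sqV.lift_fst])
  have hv2 : v' ≫ k = k'' ≫ α := (yon S).map_injective (by rw [Functor.map_comp, hv', sqV.lift_snd, Functor.map_comp])
  have hw1 : w' ≫ u₀ = w := (yon S).map_injective (by rw [Functor.map_comp, hw', sqU.lift_fst])
  have hw2 : w' ≫ kU = kU'' ≫ α := (yon S).map_injective (by rw [Functor.map_comp, hw', sqU.lift_snd, Functor.map_comp])
  -- pullback squares of schemes
  have sq₁ : IsPullback ((yon S).map v') ((yon S).map k'') ((yon S).map k) ((yon S).map α) := by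
    refine IsPullback.of_right (h₁₂ := (yon S).map v₀) (v₁₃ := b₀ ≫ h) (h₂₂ := c) ?_
      (by rw [← Functor.map_comp, hv2, Functor.map_comp]) sqV
    rw [← Functor.map_comp, hv1, ← hp]
    exact sqV''
  have sq₂ : IsPullback ((yon S).map w') ((yon S).map kU'') ((yon S).map kU) ((yon S).map α) := by
    refine IsPullback.of_right (h₁₂ := (yon S).map u₀) (v₁₃ := a₀ ≫ f ≫ h) (h₂₂ := c) ?_
      (by rw [← Functor.map_comp, hw2, Functor.map_comp]) sqU
    rw [← Functor.map_comp, hw1, ← hp]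
    exact sqU''
  have sqm : w' ≫ m = m'' ≫ v' := (yon S).map_injective (sqV.hom_ext
    (by rw [← Functor.map_comp, ← Functor.map_comp, Category.assoc, Category.assoc, hm1, hv1, hm1'', reassoc_of% hw1])
    (by rw [← Functor.map_comp, ← Functor.map_comp, Category.assoc, Category.assoc, hm2, hv2, hw2, reassoc_of% hm2'']))
  have sY : IsPullback v'.left k''.left k.left α.left := isPullback_yon_iff.1 sq₁
  have sX : IsPullback w'.left m''.left m.left v'.left := by
    refine IsPullback.of_bot ?_ (congrArg (fun q => q.left) sqm) sY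
    have := isPullback_yon_iff.1 sq₂
    rwa [← hm2, ← hm2''] at this
  -- the charts
  let eY := sqY.lift ((yon S).map v ≫ b₀) ((yon S).map k'' ≫ p) (by rw [Category.assoc, sqV''.w, Category.assoc])
  let eX := sqXZ.lift ((yon S).map w ≫ a₀) ((yon S).map kU'' ≫ p) (by rw [Category.assoc, sqU''.w, Category.assoc])
  have hbe : RepWith @Etale ((yon S).map v₀ ≫ b₀) := repWith_comp (repWith_baseChange sqV.flip hce) hb₀e
  have hae : RepWith @Etale ((yon S).map u₀ ≫ a₀) := repWith_comp (repWith_baseChange sqU.flip hce) ha₀e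
  have heY : RepWith @Etale eY := chart_baseChange @Etale sqY sqV'' hb₀e hpe
  have heX : RepWith @Etale eX := chart_baseChange @Etale sqXZ sqU'' ha₀e hpe
  have heXs : RepWith @Surjective eX := chart_baseChange @Surjective sqXZ sqU'' ha₀s hps
  have comm : ((yon S).map u₀ ≫ a₀) ≫ f = (yon S).map m ≫ (yon S).map v₀ ≫ b₀ := by
    rw [Category.assoc, hk₀, ← Functor.map_comp_assoc, ← Functor.map_comp_assoc, hm1]
  have comm' : eX ≫ f' = (yon S).map m'' ≫ eY := by
    apply sqY.hom_ext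
    · rw [Category.assoc, ← sqX.w, ← Category.assoc, sqXZ.lift_fst, Category.assoc, hk₀, Category.assoc,
        sqY.lift_fst, ← Functor.map_comp_assoc, ← Functor.map_comp_assoc, hm1'']
    · rw [Category.assoc, sqXZ.lift_snd, Category.assoc, sqY.lift_snd, ← Functor.map_comp_assoc, hm2'']
  have eXpX : eX ≫ pX = (yon S).map w' ≫ (yon S).map u₀ ≫ a₀ := by
    rw [sqXZ.lift_fst, ← Functor.map_comp_assoc, hw1]
  have commk : ((yon S).map v₀ ≫ b₀) ≫ h = (yon S).map k ≫ c := by rw [Category.assoc]; exact sqV.w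
  have commmk : ((yon S).map u₀ ≫ a₀) ≫ f ≫ h = (yon S).map (m ≫ k) ≫ c := by
    rw [hm2, Category.assoc]; exact sqU.w
  have : LocallyOfFiniteType k.left := hft _ c k hbe hce commk
  have : LocallyOfFinitePresentation (m.left ≫ k.left) := hfp _ c (m ≫ k) hae hce commmk
  have : Flat (m.left ≫ k.left) := hfl _ c (m ≫ k) hae hce commmk
  have : LocallyOfFinitePresentation m.left := LimDesc.lfp_of_comp m.left k.left
  ext x'
  obtain ⟨t, rfl⟩ := ofPt_surjective heXs x'
  simp only [Set.mem_setOf_eq, Set.mem_preimage, Points.map_ofPt, eXpX]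
  rw [ofPt_comp w' ((yon S).map u₀ ≫ a₀) t, isFlatAtMor_iff_chart hX' hY' heX heY comm',
    isFlatAtMor_iff_chart hX hY hae hbe comm]
  exact ⟨fun ht => flatAt_of_baseChange sY sX ht, fun ht => flatAt_of_isPullback sX ht⟩

end Groth.Agent.FibreFlat
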