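import Groth.Agent.FibreFlat.FP
import Groth.Agent.FibreFlat.Stalk
import Mathlib.AlgebraicGeometry.Fiber

/-!
# The fibrewise criterion of flatness at a point
-/

set_option backward.isDefEq.respectTransparency false

universe u

open TensorProduct CategoryTheory CategoryTheory.Limits AlgebraicGeometry

namespace Groth.Agent.FibreFlat

attribute [local instance] Algebra.TensorProduct.rightAlgebra

theorem flatAt_iff_appLE {X S : Scheme.{u}} (f : X ⟶ S) {V : S.Opens} (hV : IsAffineOpen V) {U : X.Opens}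
    (hU : IsAffineOpen U) (e : U ≤ f ⁻¹ᵁ V) (y : U) :
    letI := (f.appLE V U e).hom.toAlgebra
    FlatAt f y.1 ↔ Module.Flat Γ(S, V) (Localization.AtPrime (hU.primeIdealOf y).asIdeal) := by
  letI := (f.appLE V U e).hom.toAlgebra
  letI a1 : Algebra Γ(S, V) (S.presheaf.stalk (f y.1)) := S.presheaf.algebra_section_stalk ⟨f y.1, e y.2⟩
  haveI := hV.isLocalization_stalk ⟨f y.1, e y.2⟩
  letI a2 : Algebra Γ(X, U) (X.presheaf.stalk y.1) := X.presheaf.algebra_section_stalk y
  haveI := hU.isLocalization_stalk y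
  letI a3 : Algebra (S.presheaf.stalk (f y.1)) (X.presheaf.stalk y.1) := (f.stalkMap y.1).hom.toAlgebra
  letI a4 : Algebra Γ(S, V) (X.presheaf.stalk y.1) :=
    ((algebraMap Γ(X, U) (X.presheaf.stalk y.1)).comp (algebraMap Γ(S, V) Γ(X, U))).toAlgebra
  haveI : IsScalarTower Γ(S, V) Γ(X, U) (X.presheaf.stalk y.1) := IsScalarTower.of_algebraMap_eq fun _ => rfl
  haveI : IsScalarTower Γ(S, V) (S.presheaf.stalk (f y.1)) (X.presheaf.stalk y.1) := by
    refine IsScalarTower.of_algebraMap_eq fun r => ?_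
    change (X.presheaf.germ U y.1 y.2).hom ((f.appLE V U e).hom r) =
      (f.stalkMap y.1).hom ((S.presheaf.germ V (f y.1) (e y.2)).hom r)
    rw [← CommRingCat.comp_apply, ← CommRingCat.comp_apply]
    congr 2
    rw [Scheme.Hom.appLE]
    simp [Scheme.Hom.germ_stalkMap, TopCat.Presheaf.germ_res]
  let ee := (IsLocalization.algEquiv (hU.primeIdealOf y).asIdeal.primeCompl
      (Localization.AtPrime (hU.primeIdealOf y).asIdeal) (X.presheaf.stalk y.1)).restrictScalars Γ(S, V)
  rw [Module.Flat.equiv_iff ee.toLinearEquiv]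
  exact Module.flat_iff_of_isLocalization (R := Γ(S, V)) (S := S.presheaf.stalk (f y.1))
    (M := X.presheaf.stalk y.1) (hV.primeIdealOf ⟨f y.1, e y.2⟩).asIdeal.primeCompl

/-- **Fibrewise criterion of flatness at a point.** -/
theorem flatAt_of_fibre {S G H : Scheme.{u}} (f : G ⟶ H) (h : H ⟶ S) [LocallyOfFinitePresentation f]
    [LocallyOfFinitePresentation (f ≫ h)] [LocallyOfFiniteType h] [Flat (f ≫ h)] (x : G) {z : S}
    (hz : h (f x) = z) (p : ↥(pullback (f ≫ h) (S.fromSpecResidueField z)))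
    (hp : pullback.fst (f ≫ h) (S.fromSpecResidueField z) p = x)
    (hflat : FlatAt (fibMap f h (S.fromSpecResidueField z)) p) : FlatAt f x := by
  let b0 : Spec (S.residueField z) ⟶ S := S.fromSpecResidueField z
  have : LocallyOfFinitePresentation (fibMap f h b0) :=
    MorphismProperty.of_isPullback (isPullback_fibMap f h b0) ‹LocallyOfFinitePresentation f›
  obtain ⟨W₀, hW₀, hW₀e⟩ :=
    (pullback.fst (f ≫ h) b0).isEmbedding.isInducing.isOpen_iff.1 (flatOpen (fibMap f h b0)).isOpen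
  have hxW₀ : x ∈ W₀ := by
    rw [← hp]
    have : p ∈ (flatOpen (fibMap f h b0) : Set _) := hflat
    rw [← hW₀e] at this
    exact this
  obtain ⟨U, hU, hxU, -⟩ := exists_isAffineOpen_mem_and_subset (X := S) (x := h (f x)) (U := ⊤) trivial
  obtain ⟨V, hV, hxV, eV⟩ := exists_isAffineOpen_mem_and_subset (X := H) (x := f x) (U := h ⁻¹ᵁ U) hxU
  obtain ⟨W, hW, hxW, eW'⟩ := exists_isAffineOpen_mem_and_subset (X := G) (x := x)
    (U := f ⁻¹ᵁ V ⊓ ⟨W₀, hW₀⟩) ⟨hxV, hxW₀⟩
  have eW : W ≤ f ⁻¹ᵁ V := fun z hz => (eW' hz).1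
  have eWU : W ≤ (f ≫ h) ⁻¹ᵁ U := fun z hz => eV (eW hz)
  let φ : Γ(H, V) ⟶ Γ(G, W) := f.appLE V W eW
  let : Algebra Γ(S, U) Γ(H, V) := (h.appLE U V eV).hom.toAlgebra
  let : Algebra Γ(S, U) Γ(G, W) := ((f ≫ h).appLE U W eWU).hom.toAlgebra
  let : Algebra Γ(H, V) Γ(G, W) := φ.hom.toAlgebra
  have hcomp : h.appLE U V eV ≫ φ = (f ≫ h).appLE U W eWU := by
    simp only [φ, Scheme.Hom.appLE_comp_appLE]
  have : IsScalarTower Γ(S, U) Γ(H, V) Γ(G, W) := .of_algebraMap_eq fun a =>
    (congrArg (fun k : Γ(S, U) ⟶ Γ(G, W) => k.hom a) hcomp).symm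
  have : Module.Flat Γ(S, U) Γ(G, W) :=
    HasRingHomProperty.appLE @Flat (f ≫ h) ‹_› ⟨U, hU⟩ ⟨W, hW⟩ eWU
  have : Algebra.FiniteType Γ(S, U) Γ(H, V) :=
    HasRingHomProperty.appLE @LocallyOfFiniteType h ‹_› ⟨U, hU⟩ ⟨V, hV⟩ eV
  have : Algebra.FinitePresentation Γ(S, U) Γ(G, W) :=
    HasRingHomProperty.appLE @LocallyOfFinitePresentation (f ≫ h) ‹_› ⟨U, hU⟩ ⟨W, hW⟩ eWU
  rw [show FlatAt f x ↔ _ from flatAt_iff_appLE f hV hW eW ⟨x, hxW⟩]
  let Q := (hW.primeIdealOf ⟨x, hxW⟩).asIdeal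
  let L := (Q.under Γ(S, U)).ResidueField
  refine flat_at_of_fibre Q (L := L) (Ideal.ker_algebraMap_residueField _) ?_
  let F := Γ(H, V) ⊗[Γ(S, U)] L
  let ψ : Γ(H, V) ⟶ CommRingCat.of F := CommRingCat.ofHom (algebraMap Γ(H, V) F)
  let y : Spec (CommRingCat.of F) ⟶ H := Spec.map ψ ≫ hV.fromSpec
  let α : Γ(S, U) ⟶ CommRingCat.of L := CommRingCat.ofHom (algebraMap Γ(S, U) L)
  let β : CommRingCat.of L ⟶ CommRingCat.of F := CommRingCat.ofHom (algebraMap L F)
  -- the field valued point lies over `z`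
  have hpt : (Spec.map α ≫ hU.fromSpec) (IsLocalRing.closedPoint L) = z := by
    rw [Scheme.Hom.comp_apply, ← hz]
    have h1 : Spec.map α (IsLocalRing.closedPoint L) = Spec.map ((f ≫ h).appLE U W eWU) (hW.primeIdealOf ⟨x, hxW⟩) := by
      apply PrimeSpectrum.ext
      change Ideal.comap (algebraMap Γ(S, U) L) (IsLocalRing.maximalIdeal L) = Q.under Γ(S, U)
      rw [IsLocalRing.maximalIdeal_eq_bot, ← RingHom.ker_eq_comap_bot]
      exact Ideal.ker_algebraMap_residueField _
    rw [h1, ← Scheme.Hom.comp_apply, hU.SpecMap_appLE_fromSpec (f ≫ h) hW eWU, Scheme.Hom.comp_apply,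
      hW.fromSpec_primeIdealOf, Scheme.Hom.comp_apply]
  obtain ⟨a, ha⟩ : ∃ a : Spec (CommRingCat.of L) ⟶ Spec (S.residueField z),
      Spec.map α ≫ hU.fromSpec = a ≫ b0 := by
    obtain ⟨⟨z', χ⟩, hχ⟩ := (Scheme.SpecToEquivOfField L S).symm.surjective (Spec.map α ≫ hU.fromSpec)
    have hχ' : Spec.map χ ≫ S.fromSpecResidueField z' = Spec.map α ≫ hU.fromSpec := hχ
    obtain rfl : z' = z := by
      rw [← hpt, ← hχ', Scheme.Hom.comp_apply, Scheme.fromSpecResidueField_apply]
    exact ⟨Spec.map χ, hχ'.symm⟩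
  have hfl₀ : Flat (fibMap (hW.fromSpec ≫ f) h b0) := by
    let q : pullback ((hW.fromSpec ≫ f) ≫ h) b0 ⟶ pullback (f ≫ h) b0 :=
      pullback.map _ _ _ _ hW.fromSpec (𝟙 _) (𝟙 _) (by simp) (by simp)
    have hq : fibMap (hW.fromSpec ≫ f) h b0 = q ≫ fibMap f h b0 := by
      apply pullback.hom_ext <;> simp [q]
    have : IsOpenImmersion q := inferInstance
    refine Flat.of_stalkMap _ fun w => ?_
    rw [hq]
    refine flatAt_comp (flatAt_of_flat q w) (mem_flatOpen.1 ?_)
    have : pullback.fst (f ≫ h) b0 (q w) ∈ W₀ := by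
      rw [← Scheme.Hom.comp_apply, pullback.lift_fst, Scheme.Hom.comp_apply]
      exact (eW' (hW.range_fromSpec.le ⟨_, rfl⟩)).2
    exact hW₀e.le this
  have hfl : Flat (pullback.fst y (hW.fromSpec ≫ f)) :=
    flat_fst_of_fibMap (hW.fromSpec ≫ f) h b0 y (Spec.map β ≫ a) (by
      rw [Category.assoc, ← ha, ← Category.assoc, ← Spec.map_comp, Category.assoc,
        ← hU.SpecMap_appLE_fromSpec h hV eV, ← Category.assoc (Spec.map ψ), ← Spec.map_comp]
      congr 2
      ext a
      exact (Algebra.TensorProduct.tmul_one_eq_one_tmul a).symm) hfl₀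
  let j : pullback (Spec.map ψ) (Spec.map φ) ⟶ pullback y (hW.fromSpec ≫ f) :=
    pullback.map _ _ _ _ (𝟙 _) (𝟙 _) hV.fromSpec (by simp [y])
      (by rw [Category.id_comp]; exact hV.SpecMap_appLE_fromSpec f hW eW)
  have : IsIso j := ⟨pullback.lift (pullback.fst _ _) (pullback.snd _ _)
      ((cancel_mono hV.fromSpec).1 (by
        rw [Category.assoc, Category.assoc, hV.SpecMap_appLE_fromSpec f hW eW]
        exact pullback.condition)), by
    apply pullback.hom_ext <;> simp only [j, pullback.map, Category.assoc, Category.id_comp, Category.comp_id, pullback.lift_fst, pullback.lift_snd], by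
    apply pullback.hom_ext <;> simp only [j, pullback.map, Category.assoc, Category.id_comp, Category.comp_id, pullback.lift_fst, pullback.lift_snd]⟩
  have h1 : Flat ((pullbackSpecIso Γ(H, V) F Γ(G, W)).inv ≫ j ≫ pullback.fst y (hW.fromSpec ≫ f)) := inferInstance
  rw [show j ≫ pullback.fst y (hW.fromSpec ≫ f) = pullback.fst (Spec.map ψ) (Spec.map φ) by simp only [j, pullback.map, Category.comp_id, pullback.lift_fst]] at h1
  have h2 : Flat (Spec.map (CommRingCat.ofHom (algebraMap F (F ⊗[Γ(H, V)] Γ(G, W))))) := by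
    rw [← pullbackSpecIso_inv_fst']; exact h1
  rw [Flat.SpecMap_iff] at h2
  exact RingHom.flat_algebraMap_iff.1 h2

/-- flatness at a point can be tested after base change -/
theorem flatAt_of_baseChange {X Y S X' Y' S' : Scheme.{u}} {f : X ⟶ Y} {h : Y ⟶ S} {f' : X' ⟶ Y'}
    {h' : Y' ⟶ S'} {g : S' ⟶ S} {gX : X' ⟶ X} {gY : Y' ⟶ Y} [LocallyOfFinitePresentation f]
    [LocallyOfFinitePresentation (f ≫ h)] [LocallyOfFiniteType h] [Flat (f ≫ h)]
    (sqY : IsPullback gY h' h g) (sqX : IsPullback gX f' f gY) {x' : X'} (hx : FlatAt f' x') :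
    FlatAt f (gX x') := by
  let z' : S' := h' (f' x')
  have hfp' : LocallyOfFinitePresentation f' := MorphismProperty.of_isPullback sqX ‹LocallyOfFinitePresentation f›
  have sqXS : IsPullback gX (f' ≫ h') (f ≫ h) g := sqX.paste_vert sqY
  let mX := pullback.map (f' ≫ h') (S'.fromSpecResidueField z') (f ≫ h) (S.fromSpecResidueField (g z'))
    gX (Spec.map (g.residueFieldMap z')) g sqXS.w.symm (by simp)
  let mY := pullback.map h' (S'.fromSpecResidueField z') h (S.fromSpecResidueField (g z'))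
    gY (Spec.map (g.residueFieldMap z')) g sqY.w.symm (by simp)
  have : Flat (Spec.map (g.residueFieldMap z')) := by
    rw [Flat.SpecMap_iff]
    let : Algebra (S.residueField (g z')) (S'.residueField z') := (g.residueFieldMap z').hom.toAlgebra
    exact (inferInstance : Module.Flat (S.residueField (g z')) (S'.residueField z'))
  have hmX : Flat mX := MorphismProperty.of_isPullback (P := @Flat)
    (isPullback_fiberToSpecResidueField_of_isPullback sqXS z').flip ‹Flat (Spec.map (g.residueFieldMap z'))›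
  have hmY : Flat mY := MorphismProperty.of_isPullback (P := @Flat)
    (isPullback_fiberToSpecResidueField_of_isPullback sqY z').flip ‹Flat (Spec.map (g.residueFieldMap z'))›
  let p' : ↥(pullback (f' ≫ h') (S'.fromSpecResidueField z')) := (f' ≫ h').asFiber x'
  have hp' : pullback.fst (f' ≫ h') (S'.fromSpecResidueField z') p' = x' := (f' ≫ h').fiberι_asFiber x'
  have h1 : FlatAt (fibMap f' h' (S'.fromSpecResidueField z')) p' :=
    flatAt_of_isPullback (isPullback_fibMap f' h' (S'.fromSpecResidueField z')) (by rw [hp']; exact hx)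
  have h2 : FlatAt (mX ≫ fibMap f h (S.fromSpecResidueField (g z'))) p' := by
    have : mX ≫ fibMap f h (S.fromSpecResidueField (g z')) = fibMap f' h' (S'.fromSpecResidueField z') ≫ mY := by
      apply pullback.hom_ext
      · simp [mX, mY, sqX.w]
      · simp [mX, mY]
    rw [this]
    exact flatAt_comp h1 (flatAt_of_flat mY _)
  have hpt : pullback.fst (f ≫ h) (S.fromSpecResidueField (g z')) (mX p') = gX x' := by
    rw [← Scheme.Hom.comp_apply, pullback.lift_fst, Scheme.Hom.comp_apply, hp']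
  refine flatAt_of_fibre f h (gX x') ?_ (mX p') hpt (flatAt_of_comp (flatAt_of_flat mX p') h2)
  change (gX ≫ f ≫ h) x' = (f' ≫ h' ≫ g) x'
  rw [sqXS.w, Category.assoc]

end Groth.Agent.FibreFlat
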