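import Groth.Agent.FibreFlat.Scheme
import Groth.Agent.Grpd.FlatComp
import Groth.Agent.AlgSpLib.LocPMore
import Groth.Agent.AlgSpLib.Points
import Groth.Prelude.Def_AlgSp4
import Mathlib.AlgebraicGeometry.Morphisms.FiniteType

/-!
# Flatness by fibres for algebraic spaces
-/

set_option backward.isDefEq.respectTransparency false

universe u

open CategoryTheory CategoryTheory.Limits AlgebraicGeometry AlgSp Opposite
open Groth.Agent.AlgSpLib

namespace Groth.Agent.FibreFlat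

variable {S : Scheme.{u}}

/-- charts of fibres -/
theorem chart_fibre {Y Z : Sp S} (hY : IsAlgSpace Y) (hZ : IsAlgSpace Z) {h : Y ⟶ Z} {W V K : Over S}
    {c : (yon S).obj W ⟶ Z} (hc : RepWith @Etale c) {b : (yon S).obj V ⟶ Y} (hb : RepWith @Etale b)
    (k : V ⟶ W) (comm : b ≫ h = (yon S).map k ≫ c) (bK : K ⟶ W) {Yz : Sp S} {pY : Yz ⟶ Y}
    {qY : Yz ⟶ (yon S).obj K} (sqY : IsPullback pY qY h ((yon S).map bK ≫ c))
    {VK : Over S} {v₁ : VK ⟶ V} {v₂ : VK ⟶ K} (sqV : IsPullback v₁.left v₂.left k.left bK.left) :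
    ∃ e : (yon S).obj VK ⟶ Yz, RepWith @Etale e ∧ e ≫ pY = (yon S).map v₁ ≫ b ∧
      e ≫ qY = (yon S).map v₂ := by
  have sqT := IsPullback.of_hasPullback h c
  have hT : IsAlgSpace (pullback h c) := isAlgSpace_of_isPullback_space hZ hY (IsAlgSpace.yon_obj W) sqT
  let e₀ : (yon S).obj V ⟶ pullback h c := pullback.lift b ((yon S).map k) comm
  have he₀ : RepWith @Etale e₀ := repWith_etale_of_comp hT hY (g := pullback.fst h c)
    (by rw [pullback.lift_fst]; exact hb) (isEtaleMor_of_repWith' (repWith_baseChange sqT.flip hc))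
  let t : Yz ⟶ pullback h c :=
    pullback.lift pY (qY ≫ (yon S).map bK) (by rw [Category.assoc]; exact sqY.w)
  have sqA : IsPullback t qY (pullback.snd h c) ((yon S).map bK) :=
    IsPullback.of_right (h₁₂ := pullback.fst h c) (v₁₃ := h) (h₂₂ := c)
      (by rw [pullback.lift_fst]; exact sqY) (pullback.lift_snd _ _ _) sqT
  have sqV' : IsPullback ((yon S).map v₁) ((yon S).map v₂) ((yon S).map k) ((yon S).map bK) :=
    isPullback_yon_iff.2 sqV
  let e : (yon S).obj VK ⟶ Yz := sqA.lift ((yon S).map v₁ ≫ e₀) ((yon S).map v₂)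
    (by rw [Category.assoc, pullback.lift_snd]; exact sqV'.w)
  have sqB : IsPullback e ((yon S).map v₁) t e₀ := by
    refine (IsPullback.of_bot (v₂₁ := qY) ?_ ?_ sqA).flip
    · rw [sqA.lift_snd, pullback.lift_snd]
      exact sqV'
    · exact (sqA.lift_fst _ _ _).symm
  refine ⟨e, repWith_baseChange sqB.flip he₀, ?_, sqA.lift_snd _ _ _⟩
  calc e ≫ pY = (e ≫ t) ≫ pullback.fst h c := by rw [Category.assoc, pullback.lift_fst]
    _ = ((yon S).map v₁ ≫ e₀) ≫ pullback.fst h c := by rw [sqA.lift_fst]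
    _ = (yon S).map v₁ ≫ b := by rw [Category.assoc, pullback.lift_fst]

/-- the hypothesis on fibres -/
abbrev FibresFlat {X Y Z : Sp S} (f : X ⟶ Y) (h : Y ⟶ Z) : Prop :=
  ∀ (K : Type u) [Field K] (sK : Spec (CommRingCat.of K) ⟶ S)
    (z : (yon S).obj (Over.mk sK) ⟶ Z) (Xz Yz : Sp S) (pX : Xz ⟶ X)
    (qX : Xz ⟶ (yon S).obj (Over.mk sK)) (pY : Yz ⟶ Y) (qY : Yz ⟶ (yon S).obj (Over.mk sK))
    (fz : Xz ⟶ Yz), IsPullback pX qX (f ≫ h) z → IsPullback pY qY h z →
    fz ≫ pY = pX ≫ f → fz ≫ qY = qX → LocP @Flat fz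

theorem flat_chart_of_fibres {X Y Z : Sp S} (hX : IsAlgSpace X) (hY : IsAlgSpace Y) (hZ : IsAlgSpace Z)
    {f : X ⟶ Y} {h : Y ⟶ Z} (hfl : LocP @Flat (f ≫ h)) (hfib : FibresFlat f h) {U V W : Over S}
    {a : (yon S).obj U ⟶ X} (ha : RepWith @Etale a) {b : (yon S).obj V ⟶ Y} (hb : RepWith @Etale b)
    {c : (yon S).obj W ⟶ Z} (hc : RepWith @Etale c) (g : U ⟶ V) (k : V ⟶ W)
    (comm₁ : a ≫ f = (yon S).map g ≫ b) (comm₂ : b ≫ h = (yon S).map k ≫ c)
    [IsLocallyNoetherian U.left] [IsLocallyNoetherian V.left] : Flat g.left := by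
  have comm : a ≫ f ≫ h = (yon S).map (g ≫ k) ≫ c := by
    rw [reassoc_of% comm₁, comm₂, Functor.map_comp, Category.assoc]
  have : Flat (g.left ≫ k.left) := hfl a c (g ≫ k) ha hc comm
  refine flat_of_fibres g.left k.left fun L _ β => ?_
  let bK : Over.mk (β ≫ W.hom) ⟶ W := Over.homMk β rfl
  let UK : Over S := Over.mk (pullback.fst (g.left ≫ k.left) β ≫ U.hom)
  let VK : Over S := Over.mk (pullback.fst k.left β ≫ V.hom)
  let u₁ : UK ⟶ U := Over.homMk (pullback.fst (g.left ≫ k.left) β) rfl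
  let v₁ : VK ⟶ V := Over.homMk (pullback.fst k.left β) rfl
  let u₂ : UK ⟶ Over.mk (β ≫ W.hom) := Over.homMk (pullback.snd (g.left ≫ k.left) β) (by
    change pullback.snd (g.left ≫ k.left) β ≫ β ≫ W.hom = pullback.fst (g.left ≫ k.left) β ≫ U.hom
    rw [← pullback.condition_assoc, Category.assoc, Over.w k, Over.w g])
  let v₂ : VK ⟶ Over.mk (β ≫ W.hom) := Over.homMk (pullback.snd k.left β) (by
    change pullback.snd k.left β ≫ β ≫ W.hom = pullback.fst k.left β ≫ V.hom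
    rw [← pullback.condition_assoc, Over.w k])
  let m : UK ⟶ VK := Over.homMk (fibMap g.left k.left β) (by
    change fibMap g.left k.left β ≫ pullback.fst k.left β ≫ V.hom =
      pullback.fst (g.left ≫ k.left) β ≫ U.hom
    rw [pullback.lift_fst_assoc, Category.assoc, Over.w g])
  let z : (yon S).obj (Over.mk (β ≫ W.hom)) ⟶ Z := (yon S).map bK ≫ c
  have sqX := IsPullback.of_hasPullback (f ≫ h) z
  have sqY := IsPullback.of_hasPullback h z
  obtain ⟨eX, heX, eX₁, eX₂⟩ := chart_fibre hX hZ hc ha (g ≫ k) comm bK sqX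
    (v₁ := u₁) (v₂ := u₂) (IsPullback.of_hasPullback (g.left ≫ k.left) β)
  obtain ⟨eY, heY, eY₁, eY₂⟩ := chart_fibre hY hZ hc hb k comm₂ bK sqY
    (v₁ := v₁) (v₂ := v₂) (IsPullback.of_hasPullback k.left β)
  let fz : pullback (f ≫ h) z ⟶ pullback h z := sqY.lift (pullback.fst _ _ ≫ f) (pullback.snd _ _)
    (by rw [Category.assoc]; exact sqX.w)
  have hm : m ≫ v₁ = u₁ ≫ g := Over.OverMorphism.ext (pullback.lift_fst _ _ _)
  have hm' : m ≫ v₂ = u₂ := Over.OverMorphism.ext (pullback.lift_snd _ _ _)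
  refine hfib L (β ≫ W.hom) z _ _ _ _ _ _ fz sqX sqY (sqY.lift_fst _ _ _) (sqY.lift_snd _ _ _)
    eX eY m heX heY (sqY.hom_ext ?_ ?_)
  · rw [Category.assoc, sqY.lift_fst, reassoc_of% eX₁, comm₁, Category.assoc, eY₁,
      ← Functor.map_comp_assoc, ← Functor.map_comp_assoc, hm]
  · rw [Category.assoc, sqY.lift_snd, eX₂, Category.assoc, eY₂, ← Functor.map_comp, hm']

theorem flat_of_fibres_locNoeth {X Y Z : Sp S} (hX : IsAlgSpace X) (hY : IsAlgSpace Y) (hZ : IsAlgSpace Z)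
    {f : X ⟶ Y} {h : Y ⟶ Z} (hXn : IsLocNoethSp X) (hYn : IsLocNoethSp Y)
    (hfl : LocP @Flat (f ≫ h)) (hfib : FibresFlat f h) :
    LocP @Flat f ∧ (IsSurjectiveMor f → LocP @Flat h) := by
  obtain ⟨W, c, hce, hcs⟩ := hZ.atlas
  obtain ⟨V₀, b₀, hb₀e, hb₀s, hV₀⟩ := hYn
  obtain ⟨U₀, a₀, ha₀e, ha₀s, hU₀⟩ := hXn
  obtain ⟨V, v₀, k, sqV⟩ := exists_pullback hZ.diag (b₀ ≫ h) c
  have hve : Etale v₀.left := (repWith_yon_iff _).1 (repWith_baseChange sqV.flip hce)
  have hvs : Surjective v₀.left := (repWith_yon_iff _).1 (repWith_baseChange sqV.flip hcs)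
  have : IsLocallyNoetherian V.left := LocallyOfFiniteType.isLocallyNoetherian v₀.left
  have hbe : RepWith @Etale ((yon S).map v₀ ≫ b₀) := repWith_comp ((repWith_yon_iff _).2 hve) hb₀e
  have hbs : RepWith @Surjective ((yon S).map v₀ ≫ b₀) := repWith_comp ((repWith_yon_iff _).2 hvs) hb₀s
  have comm₂ : ((yon S).map v₀ ≫ b₀) ≫ h = (yon S).map k ≫ c := by
    rw [Category.assoc]; exact sqV.w
  generalize (yon S).map v₀ ≫ b₀ = b at hbe hbs comm₂
  obtain ⟨U, u₀, g, sqU⟩ := exists_pullback hY.diag (a₀ ≫ f) b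
  have hue : Etale u₀.left := (repWith_yon_iff _).1 (repWith_baseChange sqU.flip hbe)
  have hus : Surjective u₀.left := (repWith_yon_iff _).1 (repWith_baseChange sqU.flip hbs)
  have : IsLocallyNoetherian U.left := LocallyOfFiniteType.isLocallyNoetherian u₀.left
  have hae : RepWith @Etale ((yon S).map u₀ ≫ a₀) := repWith_comp ((repWith_yon_iff _).2 hue) ha₀e
  have has : RepWith @Surjective ((yon S).map u₀ ≫ a₀) := repWith_comp ((repWith_yon_iff _).2 hus) ha₀s
  have comm₁ : ((yon S).map u₀ ≫ a₀) ≫ f = (yon S).map g ≫ b := by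
    rw [Category.assoc]; exact sqU.w
  have hg : Flat g.left := flat_chart_of_fibres hX hY hZ hfl hfib hae hbe hce g k comm₁ comm₂
  refine ⟨locP_of_chart etST_flat hX hY hae has hbe comm₁ hg, fun hs => ?_⟩
  have : Surjective g.left := ⟨fun v => by
    obtain ⟨x, hx⟩ := hs (Points.ofPt b v)
    obtain ⟨u, rfl⟩ := ofPt_surjective ha₀s x
    obtain ⟨w, -, hw⟩ := (ofPt_eq_iff sqU u v).1 hx
    exact ⟨w, hw⟩⟩
  have : Flat (g.left ≫ k.left) := hfl _ c (g ≫ k) hae hce (by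
    rw [← Category.assoc, comm₁, Category.assoc, comm₂, Functor.map_comp, Category.assoc])
  exact locP_of_chart etST_flat hY hZ hbe hbs hce comm₂ (GrpdLib.flat_of_flat_comp g.left k.left)

end Groth.Agent.FibreFlat
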