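import Groth.Agent.FibreFlat.FinTypeMid
import Groth.Agent.FibreFlat.AlgSp
import Mathlib.AlgebraicGeometry.Morphisms.FinitePresentation

/-!
# The fibrewise criterion of flatness for schemes and algebraic spaces, general base
-/

set_option backward.isDefEq.respectTransparency false

universe u

open TensorProduct CategoryTheory CategoryTheory.Limits AlgebraicGeometry AlgSp Opposite
open Groth.Agent.AlgSpLib

namespace Groth.Agent.FibreFlat

section Scheme

attribute [local instance] Algebra.TensorProduct.rightAlgebra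

/-- **Fibrewise criterion of flatness**, without Noetherian hypotheses. -/
theorem flat_of_fibres_lfp {S G H : Scheme.{u}} (f : G ⟶ H) (h : H ⟶ S) [LocallyOfFinitePresentation (f ≫ h)]
    [LocallyOfFiniteType h] [Flat (f ≫ h)]
    (hfib : ∀ (L : Type u) [Field L] (b : Spec (CommRingCat.of L) ⟶ S), Flat (fibMap f h b)) : Flat f := by
  suffices key : ∀ x, ∃ W : G.Opens, x ∈ W ∧ Flat (W.ι ≫ f) by
    choose W hxW hW using key
    exact IsZariskiLocalAtSource.of_iSup_eq_top W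
      (top_le_iff.1 fun x _ => TopologicalSpace.Opens.mem_iSup.2 ⟨x, hxW x⟩) hW
  intro x
  obtain ⟨U, hU, hxU, -⟩ := exists_isAffineOpen_mem_and_subset (X := S) (x := h (f x)) (U := ⊤) trivial
  obtain ⟨V, hV, hxV, eV⟩ := exists_isAffineOpen_mem_and_subset (X := H) (x := f x) (U := h ⁻¹ᵁ U) hxU
  obtain ⟨W, hW, hxW, eW⟩ := exists_isAffineOpen_mem_and_subset (X := G) (x := x) (U := f ⁻¹ᵁ V) hxV
  refine ⟨W, hxW, ?_⟩
  have eWU : W ≤ (f ≫ h) ⁻¹ᵁ U := fun z hz => eV (eW hz)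
  let φ : Γ(H, V) ⟶ Γ(G, W) := f.appLE V W eW
  have hφ : W.ι ≫ f = hW.isoSpec.hom ≫ Spec.map φ ≫ hV.fromSpec := by
    rw [← hW.isoSpec_hom_fromSpec, Category.assoc]
    congr 1
    exact (hV.SpecMap_appLE_fromSpec f hW eW).symm
  rw [hφ]
  suffices Flat (Spec.map φ) by infer_instance
  rw [Flat.SpecMap_iff]
  let : Algebra Γ(S, U) Γ(H, V) := (h.appLE U V eV).hom.toAlgebra
  let : Algebra Γ(S, U) Γ(G, W) := ((f ≫ h).appLE U W eWU).hom.toAlgebra
  let : Algebra Γ(H, V) Γ(G, W) := φ.hom.toAlgebra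
  have hcomp : h.appLE U V eV ≫ φ = (f ≫ h).appLE U W eWU := by
    simp only [φ, Scheme.Hom.appLE_comp_appLE]
  have : IsScalarTower Γ(S, U) Γ(H, V) Γ(G, W) := .of_algebraMap_eq fun a =>
    (congrArg (fun k : Γ(S, U) ⟶ Γ(G, W) => k.hom a) hcomp).symm
  have : Module.Flat Γ(S, U) Γ(G, W) :=
    HasRingHomProperty.appLE @Flat (f ≫ h) ‹_› ⟨U, hU⟩ ⟨W, hW⟩ eWU
  have : Algebra.FiniteType Γ(S, U) Γ(H, V) :=
    HasRingHomProperty.appLE @LocallyOfFiniteType h ‹_› ⟨U, hU⟩ ⟨V, hV⟩ eV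
  have : Algebra.FinitePresentation Γ(S, U) Γ(G, W) :=
    HasRingHomProperty.appLE @LocallyOfFinitePresentation (f ≫ h) ‹_› ⟨U, hU⟩ ⟨W, hW⟩ eWU
  refine flat_of_fibres_fp (A := Γ(S, U)) fun L _ _ => ?_
  let F := Γ(H, V) ⊗[Γ(S, U)] L
  let ψ : Γ(H, V) ⟶ CommRingCat.of F := CommRingCat.ofHom (algebraMap Γ(H, V) F)
  let y : Spec (CommRingCat.of F) ⟶ H := Spec.map ψ ≫ hV.fromSpec
  let α : Γ(S, U) ⟶ CommRingCat.of L := CommRingCat.ofHom (algebraMap Γ(S, U) L)
  let β : CommRingCat.of L ⟶ CommRingCat.of F := CommRingCat.ofHom (algebraMap L F)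
  have hfl : Flat (pullback.fst y f) :=
    flat_fst_of_fibMap f h (Spec.map α ≫ hU.fromSpec) y (Spec.map β) (by
      rw [← Category.assoc, ← Spec.map_comp, Category.assoc, ← hU.SpecMap_appLE_fromSpec h hV eV,
        ← Category.assoc (Spec.map ψ), ← Spec.map_comp]
      congr 2
      ext a
      exact (Algebra.TensorProduct.tmul_one_eq_one_tmul a).symm) (hfib L _)
  let j : pullback (Spec.map ψ ≫ hV.fromSpec) (Spec.map φ ≫ hV.fromSpec) ⟶ pullback y f :=
    pullback.map _ _ _ _ (𝟙 _) hW.fromSpec (𝟙 _) (by simp [y])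
      (by rw [Category.comp_id]; exact hV.SpecMap_appLE_fromSpec f hW eW)
  have : IsOpenImmersion j := inferInstance
  let j' : pullback (Spec.map ψ) (Spec.map φ) ⟶
      pullback (Spec.map ψ ≫ hV.fromSpec) (Spec.map φ ≫ hV.fromSpec) :=
    pullback.map _ _ _ _ (𝟙 _) (𝟙 _) hV.fromSpec (by simp) (by simp)
  have : IsIso j' := ⟨pullback.lift (pullback.fst _ _) (pullback.snd _ _)
      ((cancel_mono hV.fromSpec).1 (by simpa only [Category.assoc] using pullback.condition)), by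
    apply pullback.hom_ext <;> simp only [j', pullback.map, Category.assoc, Category.id_comp, Category.comp_id, pullback.lift_fst, pullback.lift_snd], by
    apply pullback.hom_ext <;> simp only [j', pullback.map, Category.assoc, Category.id_comp, Category.comp_id, pullback.lift_fst, pullback.lift_snd]⟩
  have h1 : Flat ((pullbackSpecIso Γ(H, V) F Γ(G, W)).inv ≫ j' ≫ j ≫ pullback.fst y f) := inferInstance
  rw [show j' ≫ j ≫ pullback.fst y f = pullback.fst (Spec.map ψ) (Spec.map φ) by simp only [j, j', pullback.map, Category.assoc, Category.comp_id, pullback.lift_fst]] at h1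
  have h2 : Flat (Spec.map (CommRingCat.ofHom (algebraMap F (F ⊗[Γ(H, V)] Γ(G, W))))) := by
    rw [← pullbackSpecIso_inv_fst']; exact h1
  rw [Flat.SpecMap_iff] at h2
  exact RingHom.flat_algebraMap_iff.1 h2

end Scheme

variable {S : Scheme.{u}}

theorem flat_chart_of_fibres_lfp {X Y Z : Sp S} (hX : IsAlgSpace X) (hY : IsAlgSpace Y) (hZ : IsAlgSpace Z)
    {f : X ⟶ Y} {h : Y ⟶ Z} (hfl : LocP @Flat (f ≫ h)) (hfib : FibresFlat f h) {U V W : Over S}
    {a : (yon S).obj U ⟶ X} (ha : RepWith @Etale a) {b : (yon S).obj V ⟶ Y} (hb : RepWith @Etale b)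
    {c : (yon S).obj W ⟶ Z} (hc : RepWith @Etale c) (g : U ⟶ V) (k : V ⟶ W)
    (comm₁ : a ≫ f = (yon S).map g ≫ b) (comm₂ : b ≫ h = (yon S).map k ≫ c)
    (hfp : LocP @LocallyOfFinitePresentation (f ≫ h)) (hft : LocP @LocallyOfFiniteType h) : Flat g.left := by
  have : LocallyOfFiniteType k.left := hft b c k hb hc comm₂
  have comm : a ≫ f ≫ h = (yon S).map (g ≫ k) ≫ c := by
    rw [reassoc_of% comm₁, comm₂, Functor.map_comp, Category.assoc]
  have : Flat (g.left ≫ k.left) := hfl a c (g ≫ k) ha hc comm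
  have : LocallyOfFinitePresentation (g.left ≫ k.left) := hfp a c (g ≫ k) ha hc comm
  refine flat_of_fibres_lfp g.left k.left fun L _ β => ?_
  let bK : Over.mk (β ≫ W.hom) ⟶ W := Over.homMk β rfl
  let UK : Over S := Over.mk (pullback.fst (g.left ≫ k.left) β ≫ U.hom)
  let VK : Over S := Over.mk (pullback.fst k.left β ≫ V.hom)
  let u₁ : UK ⟶ U := Over.homMk (pullback.fst (g.left ≫ k.left) β) rfl
  let v₁ : VK ⟶ V := Over.homMk (pullback.fst k.left β) rfl
  let u₂ : UK ⟶ Over.mk (β ≫ W.hom) := Over.homMk (pullback.snd (g.left ≫ k.left) β) (by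
    change pullback.snd (g.left ≫ k.left) β ≫ β ≫ W.hom = pullback.fst (g.left ≫ k.left) β ≫ U.hom
    rw [← pullback.condition_assoc, Category.assoc, Over.w k, Over.w g])
  let v₂ : VK ⟶ Over.mk (β ≫ W.hom) := Over.homMk (pullback.snd k.left β) (by
    change pullback.snd k.left β ≫ β ≫ W.hom = pullback.fst k.left β ≫ V.hom
    rw [← pullback.condition_assoc, Over.w k])
  let m : UK ⟶ VK := Over.homMk (fibMap g.left k.left β) (by
    change fibMap g.left k.left β ≫ pullback.fst k.left β ≫ V.hom =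
      pullback.fst (g.left ≫ k.left) β ≫ U.hom
    rw [pullback.lift_fst_assoc, Category.assoc, Over.w g])
  let z : (yon S).obj (Over.mk (β ≫ W.hom)) ⟶ Z := (yon S).map bK ≫ c
  have sqX := IsPullback.of_hasPullback (f ≫ h) z
  have sqY := IsPullback.of_hasPullback h z
  obtain ⟨eX, heX, eX₁, eX₂⟩ := chart_fibre hX hZ hc ha (g ≫ k) comm bK sqX
    (v₁ := u₁) (v₂ := u₂) (IsPullback.of_hasPullback (g.left ≫ k.left) β)
  obtain ⟨eY, heY, eY₁, eY₂⟩ := chart_fibre hY hZ hc hb k comm₂ bK sqY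
    (v₁ := v₁) (v₂ := v₂) (IsPullback.of_hasPullback k.left β)
  let fz : pullback (f ≫ h) z ⟶ pullback h z := sqY.lift (pullback.fst _ _ ≫ f) (pullback.snd _ _)
    (by rw [Category.assoc]; exact sqX.w)
  have hm : m ≫ v₁ = u₁ ≫ g := Over.OverMorphism.ext (pullback.lift_fst _ _ _)
  have hm' : m ≫ v₂ = u₂ := Over.OverMorphism.ext (pullback.lift_snd _ _ _)
  refine hfib L (β ≫ W.hom) z _ _ _ _ _ _ fz sqX sqY (sqY.lift_fst _ _ _) (sqY.lift_snd _ _ _)
    eX eY m heX heY (sqY.hom_ext ?_ ?_)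
  · rw [Category.assoc, sqY.lift_fst, reassoc_of% eX₁, comm₁, Category.assoc, eY₁,
      ← Functor.map_comp_assoc, ← Functor.map_comp_assoc, hm]
  · rw [Category.assoc, sqY.lift_snd, eX₂, Category.assoc, eY₂, ← Functor.map_comp, hm']

theorem flat_of_fibresFlat {X Y Z : Sp S} (hX : IsAlgSpace X) (hY : IsAlgSpace Y) (hZ : IsAlgSpace Z)
    {f : X ⟶ Y} {h : Y ⟶ Z} (hfp : LocP @LocallyOfFinitePresentation (f ≫ h))
    (hft : LocP @LocallyOfFiniteType h)
    (hfl : LocP @Flat (f ≫ h)) (hfib : FibresFlat f h) :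
    LocP @Flat f ∧ (IsSurjectiveMor f → LocP @Flat h) := by
  obtain ⟨W, c, hce, hcs⟩ := hZ.atlas
  obtain ⟨V₀, b₀, hb₀e, hb₀s⟩ := hY.atlas
  obtain ⟨U₀, a₀, ha₀e, ha₀s⟩ := hX.atlas
  obtain ⟨V, v₀, k, sqV⟩ := exists_pullback hZ.diag (b₀ ≫ h) c
  have hve : Etale v₀.left := (repWith_yon_iff _).1 (repWith_baseChange sqV.flip hce)
  have hvs : Surjective v₀.left := (repWith_yon_iff _).1 (repWith_baseChange sqV.flip hcs)
  have hbe : RepWith @Etale ((yon S).map v₀ ≫ b₀) := repWith_comp ((repWith_yon_iff _).2 hve) hb₀e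
  have hbs : RepWith @Surjective ((yon S).map v₀ ≫ b₀) := repWith_comp ((repWith_yon_iff _).2 hvs) hb₀s
  have comm₂ : ((yon S).map v₀ ≫ b₀) ≫ h = (yon S).map k ≫ c := by
    rw [Category.assoc]; exact sqV.w
  generalize (yon S).map v₀ ≫ b₀ = b at hbe hbs comm₂
  obtain ⟨U, u₀, g, sqU⟩ := exists_pullback hY.diag (a₀ ≫ f) b
  have hue : Etale u₀.left := (repWith_yon_iff _).1 (repWith_baseChange sqU.flip hbe)
  have hus : Surjective u₀.left := (repWith_yon_iff _).1 (repWith_baseChange sqU.flip hbs)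
  have hae : RepWith @Etale ((yon S).map u₀ ≫ a₀) := repWith_comp ((repWith_yon_iff _).2 hue) ha₀e
  have has : RepWith @Surjective ((yon S).map u₀ ≫ a₀) := repWith_comp ((repWith_yon_iff _).2 hus) ha₀s
  have comm₁ : ((yon S).map u₀ ≫ a₀) ≫ f = (yon S).map g ≫ b := by
    rw [Category.assoc]; exact sqU.w
  have hg : Flat g.left := flat_chart_of_fibres_lfp hX hY hZ hfl hfib hae hbe hce g k comm₁ comm₂ hfp hft
  refine ⟨locP_of_chart etST_flat hX hY hae has hbe comm₁ hg, fun hs => ?_⟩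
  have : Surjective g.left := ⟨fun v => by
    obtain ⟨x, hx⟩ := hs (Points.ofPt b v)
    obtain ⟨u, rfl⟩ := ofPt_surjective ha₀s x
    obtain ⟨w, -, hw⟩ := (ofPt_eq_iff sqU u v).1 hx
    exact ⟨w, hw⟩⟩
  have : Flat (g.left ≫ k.left) := hfl _ c (g ≫ k) hae hce (by
    rw [← Category.assoc, comm₁, Category.assoc, comm₂, Functor.map_comp, Category.assoc])
  exact locP_of_chart etST_flat hY hZ hbe hbs hce comm₂ (GrpdLib.flat_of_flat_comp g.left k.left)

end Groth.Agent.FibreFlat
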