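import Groth.Agent.FibFlat.Noetherian
import Mathlib.AlgebraicGeometry.Morphisms.Flat
import Mathlib.AlgebraicGeometry.Noetherian
import Mathlib.AlgebraicGeometry.Fiber

/-!
# The fibrewise criterion of flatness for morphisms of locally Noetherian schemes
-/

universe u

open TensorProduct CategoryTheory CategoryTheory.Limits AlgebraicGeometry

namespace Groth.Agent.FibreFlat

attribute [local instance] Algebra.TensorProduct.rightAlgebra

theorem flat_of_fibres_ring {A B C : Type u} [CommRing A] [CommRing B] [CommRing C]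
    [Algebra A B] [Algebra A C] [Algebra B C] [IsScalarTower A B C]
    [IsNoetherianRing B] [IsNoetherianRing C] [Module.Flat A C]
    (hfib : ∀ (L : Type u) [Field L] [Algebra A L],
      Module.Flat (B ⊗[A] L) ((B ⊗[A] L) ⊗[B] C)) :
    Module.Flat B C := by
  apply Module.flat_of_isLocalized_maximal C C (fun Q => Localization.AtPrime Q)
    (fun Q => Algebra.linearMap C (Localization.AtPrime Q))
  intro q _
  exact FibFlat.flat_localization_of_fibre q (q.under A) (hfib _)

/-- The morphism induced on the fibres over a field-valued point. -/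
noncomputable abbrev fibMap {S G H : Scheme.{u}} (f : G ⟶ H) (h : H ⟶ S) {L : Scheme.{u}} (b : L ⟶ S) :
    pullback (f ≫ h) b ⟶ pullback h b :=
  pullback.lift (pullback.fst _ _ ≫ f) (pullback.snd _ _) (by rw [Category.assoc]; exact pullback.condition)

theorem isPullback_fibMap {S G H : Scheme.{u}} (f : G ⟶ H) (h : H ⟶ S) {L : Scheme.{u}} (b : L ⟶ S) :
    IsPullback (pullback.fst (f ≫ h) b) (fibMap f h b) f (pullback.fst h b) := by
  refine IsPullback.of_bot ?_ (pullback.lift_fst _ _ _).symm (IsPullback.of_hasPullback h b)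
  rw [pullback.lift_snd]
  exact IsPullback.of_hasPullback (f ≫ h) b

theorem flat_fst_of_fibMap {S G H : Scheme.{u}} (f : G ⟶ H) (h : H ⟶ S) {L Y : Scheme.{u}} (b : L ⟶ S)
    (y : Y ⟶ H) (a : Y ⟶ L) (e : a ≫ b = y ≫ h) (hb : Flat (fibMap f h b)) : Flat (pullback.fst y f) := by
  let ℓ : Y ⟶ pullback h b := pullback.lift y a e.symm
  have sq : IsPullback (pullback.fst ℓ (fibMap f h b))
      (pullback.snd ℓ (fibMap f h b) ≫ pullback.fst (f ≫ h) b) y f := by
    have := (IsPullback.of_hasPullback ℓ (fibMap f h b)).paste_vert (isPullback_fibMap f h b).flip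
    rwa [pullback.lift_fst] at this
  rw [← sq.isoPullback_inv_fst]
  infer_instance

/-- **Fibrewise criterion of flatness.** -/
theorem flat_of_fibres {S G H : Scheme.{u}} (f : G ⟶ H) (h : H ⟶ S) [IsLocallyNoetherian G]
    [IsLocallyNoetherian H] [Flat (f ≫ h)]
    (hfib : ∀ (L : Type u) [Field L] (b : Spec (CommRingCat.of L) ⟶ S), Flat (fibMap f h b)) : Flat f := by
  suffices key : ∀ x, ∃ W : G.Opens, x ∈ W ∧ Flat (W.ι ≫ f) by
    choose W hxW hW using key
    exact IsZariskiLocalAtSource.of_iSup_eq_top W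
      (top_le_iff.1 fun x _ => TopologicalSpace.Opens.mem_iSup.2 ⟨x, hxW x⟩) hW
  intro x
  obtain ⟨U, hU, hxU, -⟩ := exists_isAffineOpen_mem_and_subset (X := S) (x := h (f x)) (U := ⊤) trivial
  obtain ⟨V, hV, hxV, eV⟩ := exists_isAffineOpen_mem_and_subset (X := H) (x := f x) (U := h ⁻¹ᵁ U) hxU
  obtain ⟨W, hW, hxW, eW⟩ := exists_isAffineOpen_mem_and_subset (X := G) (x := x) (U := f ⁻¹ᵁ V) hxV
  refine ⟨W, hxW, ?_⟩
  have eWU : W ≤ (f ≫ h) ⁻¹ᵁ U := fun z hz => eV (eW hz)
  let φ : Γ(H, V) ⟶ Γ(G, W) := f.appLE V W eW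
  have hφ : W.ι ≫ f = hW.isoSpec.hom ≫ Spec.map φ ≫ hV.fromSpec := by
    rw [← hW.isoSpec_hom_fromSpec, Category.assoc]
    congr 1
    exact (hV.SpecMap_appLE_fromSpec f hW eW).symm
  rw [hφ]
  suffices Flat (Spec.map φ) by infer_instance
  rw [Flat.SpecMap_iff]
  let : Algebra Γ(S, U) Γ(H, V) := (h.appLE U V eV).hom.toAlgebra
  let : Algebra Γ(S, U) Γ(G, W) := ((f ≫ h).appLE U W eWU).hom.toAlgebra
  let : Algebra Γ(H, V) Γ(G, W) := φ.hom.toAlgebra
  have hcomp : h.appLE U V eV ≫ φ = (f ≫ h).appLE U W eWU := by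
    simp only [φ, Scheme.Hom.appLE_comp_appLE]
  have : IsScalarTower Γ(S, U) Γ(H, V) Γ(G, W) := .of_algebraMap_eq fun a =>
    (congrArg (fun k : Γ(S, U) ⟶ Γ(G, W) => k.hom a) hcomp).symm
  have : Module.Flat Γ(S, U) Γ(G, W) :=
    HasRingHomProperty.appLE @Flat (f ≫ h) ‹_› ⟨U, hU⟩ ⟨W, hW⟩ eWU
  have : IsNoetherianRing Γ(H, V) := IsLocallyNoetherian.component_noetherian ⟨V, hV⟩
  have : IsNoetherianRing Γ(G, W) := IsLocallyNoetherian.component_noetherian ⟨W, hW⟩
  refine flat_of_fibres_ring (A := Γ(S, U)) fun L _ _ => ?_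
  let F := Γ(H, V) ⊗[Γ(S, U)] L
  let ψ : Γ(H, V) ⟶ CommRingCat.of F := CommRingCat.ofHom (algebraMap Γ(H, V) F)
  let y : Spec (CommRingCat.of F) ⟶ H := Spec.map ψ ≫ hV.fromSpec
  let α : Γ(S, U) ⟶ CommRingCat.of L := CommRingCat.ofHom (algebraMap Γ(S, U) L)
  let β : CommRingCat.of L ⟶ CommRingCat.of F := CommRingCat.ofHom (algebraMap L F)
  have hfl : Flat (pullback.fst y f) :=
    flat_fst_of_fibMap f h (Spec.map α ≫ hU.fromSpec) y (Spec.map β) (by
      rw [← Category.assoc, ← Spec.map_comp, Category.assoc, ← hU.SpecMap_appLE_fromSpec h hV eV,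
        ← Category.assoc (Spec.map ψ), ← Spec.map_comp]
      congr 2
      ext a
      exact (Algebra.TensorProduct.tmul_one_eq_one_tmul a).symm) (hfib L _)
  let j : pullback (Spec.map ψ ≫ hV.fromSpec) (Spec.map φ ≫ hV.fromSpec) ⟶ pullback y f :=
    pullback.map _ _ _ _ (𝟙 _) hW.fromSpec (𝟙 _) (by simp [y])
      (by rw [Category.comp_id]; exact hV.SpecMap_appLE_fromSpec f hW eW)
  have : IsOpenImmersion j := inferInstance
  let j' : pullback (Spec.map ψ) (Spec.map φ) ⟶
      pullback (Spec.map ψ ≫ hV.fromSpec) (Spec.map φ ≫ hV.fromSpec) :=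
    pullback.map _ _ _ _ (𝟙 _) (𝟙 _) hV.fromSpec (by simp) (by simp)
  have : IsIso j' := ⟨pullback.lift (pullback.fst _ _) (pullback.snd _ _)
      ((cancel_mono hV.fromSpec).1 (by simpa only [Category.assoc] using pullback.condition)), by
    apply pullback.hom_ext <;> simp only [j', pullback.map, Category.assoc, Category.id_comp, Category.comp_id, pullback.lift_fst, pullback.lift_snd], by
    apply pullback.hom_ext <;> simp only [j', pullback.map, Category.assoc, Category.id_comp, Category.comp_id, pullback.lift_fst, pullback.lift_snd]⟩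
  have h1 : Flat ((pullbackSpecIso Γ(H, V) F Γ(G, W)).inv ≫ j' ≫ j ≫ pullback.fst y f) := inferInstance
  rw [show j' ≫ j ≫ pullback.fst y f = pullback.fst (Spec.map ψ) (Spec.map φ) by simp only [j, j', pullback.map, Category.assoc, Category.comp_id, pullback.lift_fst]] at h1
  have h2 : Flat (Spec.map (CommRingCat.ofHom (algebraMap F (F ⊗[Γ(H, V)] Γ(G, W))))) := by
    rw [← pullbackSpecIso_inv_fst']; exact h1
  rw [Flat.SpecMap_iff] at h2
  exact RingHom.flat_algebraMap_iff.1 h2

end Groth.Agent.FibreFlat
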