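import Groth.Agent.FibreFlat.LocusSp
import Groth.Prelude.Def_AlgSpInf
import Mathlib.AlgebraicGeometry.Morphisms.ClosedImmersion

/-!
# Flatness over a thickened base
-/

set_option backward.isDefEq.respectTransparency false

universe u

open CategoryTheory CategoryTheory.Limits AlgebraicGeometry AlgSp Opposite
open Groth.Agent.AlgSpLib

namespace Groth.Agent.FibreFlat

variable {S : Scheme.{u}}

/-- field valued points lift along thickenings -/
theorem exists_lift_thick {B B' : Sp S} {i : B ⟶ B'} (hi : RepWith thick i) {K : Type u} [Field K]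
    {s : Spec (CommRingCat.of K) ⟶ S} (z : (yon S).obj (Over.mk s) ⟶ B') :
    ∃ z₀ : (yon S).obj (Over.mk s) ⟶ B, z₀ ≫ i = z := by
  obtain ⟨W, fst, snd, sq, hW⟩ := exists_repWith hi z
  have : IsClosedImmersion snd.left := hW.1
  have : Surjective snd.left := hW.2
  have : IsReduced (Over.mk s).left := inferInstanceAs (IsReduced (Spec (CommRingCat.of K)))
  have : IsIso snd.left := isIso_of_isClosedImmersion_of_surjective _
  have : IsIso snd := (Over.isoMk (asIso snd.left) (Over.w snd) : W ≅ Over.mk s).isIso_hom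
  exact ⟨(yon S).map (inv snd) ≫ fst, by
    rw [Category.assoc, sq.w, ← Functor.map_comp_assoc, IsIso.inv_hom_id]
    erw [CategoryTheory.Functor.map_id, Category.id_comp]⟩

theorem fibresFlat_of_thick {X X' Y Y' B B' : Sp S} (hX : IsAlgSpace X) (hY : IsAlgSpace Y) (hB : IsAlgSpace B)
    {iX : X ⟶ X'} {iY : Y ⟶ Y'} {iB : B ⟶ B'} {f : X ⟶ Y} {f' : X' ⟶ Y'} {g : Y ⟶ B} {g' : Y' ⟶ B'}
    (hcX : IsPullback iX (f ≫ g) (f' ≫ g') iB) (hcY : IsPullback iY g g' iB) (w : iX ≫ f' = f ≫ iY)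
    (hi : RepWith thick iB) (hf : LocP @Flat f) : FibresFlat f' g' := by
  intro K _ sK z Xz Yz pX qX pY qY fz sqX sqY e1 e2
  obtain ⟨z₀, rfl⟩ := exists_lift_thick hi z
  let x₀ := hcX.lift pX (qX ≫ z₀) (by rw [Category.assoc]; exact sqX.w)
  let y₀ := hcY.lift pY (qY ≫ z₀) (by rw [Category.assoc]; exact sqY.w)
  have sx : IsPullback x₀ qX (f ≫ g) z₀ :=
    IsPullback.of_right (h₁₂ := iX) (v₁₃ := f' ≫ g') (h₂₂ := iB) (by rw [hcX.lift_fst]; exact sqX)
      (hcX.lift_snd _ _ _) hcX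
  have sy : IsPullback y₀ qY g z₀ :=
    IsPullback.of_right (h₁₂ := iY) (v₁₃ := g') (h₂₂ := iB) (by rw [hcY.lift_fst]; exact sqY)
      (hcY.lift_snd _ _ _) hcY
  have e : x₀ ≫ f = fz ≫ y₀ := by
    apply hcY.hom_ext
    · rw [Category.assoc, ← w, ← Category.assoc, hcX.lift_fst, Category.assoc, hcY.lift_fst, e1]
    · rw [Category.assoc, hcX.lift_snd, Category.assoc, hcY.lift_snd, ← Category.assoc, e2]
  have sq : IsPullback x₀ fz f y₀ := IsPullback.of_bot (v₂₁ := qY) (v₂₂ := g) (by rw [e2]; exact sx) e sy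
  exact locP_baseChange etST_flat hX hY
    (isAlgSpace_of_isPullback_space hB hX (IsAlgSpace.yon_obj _) sx)
    (isAlgSpace_of_isPullback_space hB hY (IsAlgSpace.yon_obj _) sy) sq hf

theorem flat_of_thick {X X' Y Y' B B' : Sp S} (hX : IsAlgSpace X) (hY : IsAlgSpace Y) (hB : IsAlgSpace B)
    (hX' : IsAlgSpace X') (hY' : IsAlgSpace Y') (hB' : IsAlgSpace B')
    {iX : X ⟶ X'} {iY : Y ⟶ Y'} {iB : B ⟶ B'} {f : X ⟶ Y} {f' : X' ⟶ Y'} {g : Y ⟶ B} {g' : Y' ⟶ B'}
    (hcX : IsPullback iX (f ≫ g) (f' ≫ g') iB) (hcY : IsPullback iY g g' iB) (w : iX ≫ f' = f ≫ iY)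
    (hi : RepWith thick iB) (hg' : LocP @LocallyOfFiniteType g') (hflat : LocP @Flat (f' ≫ g'))
    (hfp : LocP @LocallyOfFinitePresentation (f' ≫ g')) (hf : LocP @Flat f) :
    LocP @Flat f' ∧ ∀ x' : Points X', IsFlatAtMor g' (Points.map f' x') := by
  have h := (flat_of_fibresFlat hX' hY' hB' hfp hg' hflat (fibresFlat_of_thick hX hY hB hcX hcY w hi hf)).1
  refine ⟨h, fun x' => ?_⟩
  obtain ⟨W, c, hce, hcs⟩ := hB'.atlas
  obtain ⟨V, b, k, hbe, hbs, hk⟩ := exists_chart_lift hY' hB' g' hce hcs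
  obtain ⟨U, a, m, hae, has, hm⟩ := exists_chart_lift hX' hY' f' hbe hbs
  obtain ⟨u, rfl⟩ := ofPt_surjective has x'
  rw [Points.map_ofPt, hm, ofPt_comp, isFlatAtMor_iff_chart hY' hB' hbe hce hk]
  have hmf : Flat m.left := h a b m hae hbe hm
  have hmk : Flat (m.left ≫ k.left) := hflat a c (m ≫ k) hae hce (by
    rw [← Category.assoc, hm, Category.assoc, hk, Functor.map_comp, Category.assoc])
  exact flatAt_of_comp (flatAt_of_flat m.left u) (flatAt_of_flat (m.left ≫ k.left) u)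

end Groth.Agent.FibreFlat
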