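import Groth.Agent.FibreFlat.Model

/-!
# Fibrewise criterion of flatness: finitely presented source, middle of finite type
-/

universe u

open TensorProduct MvPolynomial

namespace Groth.Agent.FibreFlat

attribute [local instance] Algebra.TensorProduct.rightAlgebra

theorem map_aeval_eq {A₁ A D E : Type u} [CommRing A₁] [CommRing A] [CommRing D] [CommRing E]
    [Algebra A₁ D] [Algebra A E] {n : ℕ} (φ : A₁ →+* A) (F : D →+* E)
    (h : ∀ a, F (algebraMap A₁ D a) = algebraMap A E (φ a)) (t : Fin n → D) (p : MvPolynomial (Fin n) A₁) :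
    F (aeval t p) = aeval (fun i => F (t i)) (MvPolynomial.map φ p) := by
  induction p using MvPolynomial.induction_on with
  | C a => simp [h]
  | add p q hp hq => simp [hp, hq]
  | mul_X p i hp => simp [hp]

set_option backward.isDefEq.respectTransparency false in
theorem exists_model_data (A C : Type u) [CommRing A] [CommRing C] [Algebra A C]
    [Algebra.FinitePresentation A C] [Module.Flat A C] {n : ℕ} (c : Fin n → C)
    (S : Finset (MvPolynomial (Fin n) A)) (hS : ∀ f ∈ S, aeval c f = 0) :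
    ∃ (A₁ : Type u) (_ : CommRing A₁) (_ : Algebra A₁ A) (C₁ : Type u) (_ : CommRing C₁)
      (_ : Algebra A₁ C₁) (_ : Algebra C₁ C) (_ : Algebra A₁ C) (_ : IsScalarTower A₁ A C)
      (_ : IsScalarTower A₁ C₁ C),
      IsNoetherianRing A₁ ∧ Algebra.FiniteType A₁ C₁ ∧ Module.Flat A₁ C₁ ∧ Algebra.IsPushout A₁ A C₁ C ∧
      ∃ t : Fin n → C₁, (∀ i, algebraMap C₁ C (t i) = c i) ∧
        ∀ f ∈ S, ∃ f₁ : MvPolynomial (Fin n) A₁, MvPolynomial.map (algebraMap A₁ A) f₁ = f ∧ aeval t f₁ = 0 := by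
  classical
  obtain ⟨R₀, _, _, S₀, _, _, _, _, _, _, hR₀, hS₀, hfl, hpo⟩ := FlatSpread.exists_model_algebra A C
  let e : A ⊗[R₀] S₀ ≃ₐ[A] C := Algebra.IsPushout.equiv R₀ A S₀ C
  let ι : ∀ D : Subalgebra R₀ A, D ⊗[R₀] S₀ →ₐ[R₀] A ⊗[R₀] S₀ :=
    fun D => Algebra.TensorProduct.map D.val (AlgHom.id R₀ S₀)
  let j : ∀ {D E : Subalgebra R₀ A}, D ≤ E → D ⊗[R₀] S₀ →ₐ[R₀] E ⊗[R₀] S₀ :=
    fun h => Algebra.TensorProduct.map (Subalgebra.inclusion h) (AlgHom.id R₀ S₀)
  have hιj : ∀ {D E : Subalgebra R₀ A} (h : D ≤ E) (x : D ⊗[R₀] S₀), ι E (j h x) = ι D x := by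
    intro D E h x
    induction x using TensorProduct.induction_on with
    | zero => simp
    | tmul a b => simp [ι, j]
    | add x y hx hy => simp only [map_add, hx, hy]
  have hjj : ∀ {D E F : Subalgebra R₀ A} (h : D ≤ E) (h' : E ≤ F) (x : D ⊗[R₀] S₀),
      j h' (j h x) = j (h.trans h') x := by
    intro D E F h h' x
    induction x using TensorProduct.induction_on with
    | zero => simp
    | tmul a b => simp [j]
    | add x y hx hy => simp only [map_add, hx, hy]
  have hx : ∀ x : A ⊗[R₀] S₀, ∃ (D : Subalgebra R₀ A) (y : D ⊗[R₀] S₀), D.FG ∧ ι D y = x := fun x => by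
    obtain ⟨D, hD, y, hy⟩ := TensorProduct.Algebra.exists_of_fg x
    exact ⟨D, y, hD, hy⟩
  choose D₁ y₁ hD₁ hy₁ using fun i => hx (e.symm (c i))
  let coef : Finset A := S.biUnion fun f => f.support.image f.coeff
  let Da : Subalgebra R₀ A := Finset.univ.sup D₁ ⊔ Algebra.adjoin R₀ (coef : Set A)
  have hDa : Da.FG := Subalgebra.FG.sup
    (Finset.sup_induction Subalgebra.fg_bot (fun _ h _ h' => Subalgebra.FG.sup h h') fun i _ => hD₁ i)
    (Subalgebra.fg_adjoin_finset _)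
  have hle : ∀ i, D₁ i ≤ Da := fun i => (Finset.le_sup (Finset.mem_univ i)).trans le_sup_left
  let ta : Fin n → Da ⊗[R₀] S₀ := fun i => j (hle i) (y₁ i)
  have hta : ∀ i, e (ι Da (ta i)) = c i := fun i => by
    simp only [ta, hιj, hy₁, AlgEquiv.apply_symm_apply]
  have hlift : ∀ f : S, ∃ f₁ : MvPolynomial (Fin n) Da, MvPolynomial.map (algebraMap Da A) f₁ = f.1 := by
    intro f
    refine RingHom.mem_range.1 (mem_range_map_iff_coeffs_subset.2 ?_)
    intro a ha
    obtain ⟨m, hm, rfl⟩ := MvPolynomial.mem_coeffs_iff.1 ha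
    exact ⟨⟨_, (le_sup_right : _ ≤ Da) (Algebra.subset_adjoin
      (Finset.mem_biUnion.2 ⟨f.1, f.2, Finset.mem_image_of_mem _ hm⟩))⟩, rfl⟩
  choose fa hfa using hlift
  have hz : ∀ f : S, ι Da (aeval ta (fa f)) = 0 := by
    intro f
    apply e.injective
    rw [map_zero, ← hS f.1 f.2]
    refine (map_aeval_eq (algebraMap Da A) (e.toAlgHom.toRingHom.comp (ι Da).toRingHom) ?_ ta (fa f)).trans ?_
    · intro a
      change e (ι Da (a ⊗ₜ[R₀] (1 : S₀))) = _
      simp only [ι, Algebra.TensorProduct.map_tmul, e, Algebra.IsPushout.equiv_tmul, map_one, mul_one]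
      rfl
    · rw [hfa]
      exact congrArg (fun g => aeval g f.1) (funext hta)
  have hkill : ∀ f : S, ∃ (E : Subalgebra R₀ A) (h : Da ≤ E), E.FG ∧ j h (aeval ta (fa f)) = 0 := by
    intro f
    obtain ⟨E, h, hE, he⟩ := TensorProduct.Algebra.eq_of_fg_of_subtype_eq hDa (t := aeval ta (fa f)) (t' := 0)
      (show ι Da (aeval ta (fa f)) = LinearMap.rTensor S₀ Da.val.toLinearMap 0 by rw [hz f, map_zero])
    refine ⟨E, h, hE, ?_⟩
    rw [map_zero] at he
    exact he
  choose E hE hEfg hEz using hkill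
  let A₁ : Subalgebra R₀ A := Da ⊔ Finset.univ.sup E
  have hA₁ : A₁.FG := Subalgebra.FG.sup hDa
    (Finset.sup_induction Subalgebra.fg_bot (fun _ h _ h' => Subalgebra.FG.sup h h') fun f _ => hEfg f)
  have hle₁ : Da ≤ A₁ := le_sup_left
  let C₁ := A₁ ⊗[R₀] S₀
  let m : C₁ →ₐ[R₀] C := ((e.toAlgHom : A ⊗[R₀] S₀ →ₐ[A] C).restrictScalars R₀).comp (ι A₁)
  let : Algebra C₁ C := m.toRingHom.toAlgebra
  have : IsScalarTower A₁ C₁ C := IsScalarTower.of_algebraMap_eq (R := A₁) (S := C₁) (A := C) fun a => by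
    change algebraMap A C (algebraMap A₁ A a) = e (ι A₁ (a ⊗ₜ[R₀] (1 : S₀)))
    simp only [ι, Algebra.TensorProduct.map_tmul, e, Algebra.IsPushout.equiv_tmul, map_one, mul_one]
    rfl
  have : Algebra.FiniteType R₀ A₁ := (Subalgebra.fg_iff_finiteType _).1 hA₁
  have : IsNoetherianRing R₀ := Algebra.FiniteType.isNoetherianRing ℤ R₀
  have : IsNoetherianRing A₁ := Algebra.FiniteType.isNoetherianRing R₀ A₁
  have : Algebra.IsPushout A₁ A C₁ C := by
    let e' : A ⊗[A₁] C₁ ≃ₐ[A] C := (Algebra.TensorProduct.cancelBaseChange R₀ A₁ A A S₀).trans e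
    refine Algebra.IsPushout.of_equiv (S' := A ⊗[A₁] C₁) e' (RingHom.ext fun x => ?_)
    change e' ((1 : A) ⊗ₜ x) = e (ι A₁ x)
    induction x using TensorProduct.induction_on with
    | zero => simp
    | tmul a b =>
      simp only [e', AlgEquiv.trans_apply, ι]
      rw [Algebra.TensorProduct.map_tmul]
      refine congrArg e ?_
      exact (Algebra.TensorProduct.cancelBaseChange_tmul ..).trans (by simp [Algebra.smul_def])
    | add x y hx hy => simp only [tmul_add, map_add, hx, hy]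
  refine ⟨A₁, inferInstance, inferInstance, C₁, inferInstance, inferInstance, inferInstance, inferInstance,
    inferInstance, inferInstance, inferInstance, inferInstance, inferInstance, inferInstance,
    fun i => j hle₁ (ta i), fun i => ?_, fun f hf => ⟨MvPolynomial.map (Subalgebra.inclusion hle₁).toRingHom (fa ⟨f, hf⟩), ?_, ?_⟩⟩
  · change e (ι A₁ (j hle₁ (ta i))) = c i
    rw [hιj, hta]
  · rw [MvPolynomial.map_map]
    exact hfa ⟨f, hf⟩
  · have h1 := map_aeval_eq (E := C₁) (Subalgebra.inclusion hle₁).toRingHom (j hle₁).toRingHom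
      (fun a => by
        change j hle₁ (a ⊗ₜ[R₀] (1 : S₀)) = (Subalgebra.inclusion hle₁ a) ⊗ₜ[R₀] (1 : S₀)
        simp [j]) ta (fa ⟨f, hf⟩)
    refine h1.symm.trans ?_
    change j hle₁ (aeval ta (fa ⟨f, hf⟩)) = 0
    rw [← hjj (hE ⟨f, hf⟩) ((Finset.le_sup (Finset.mem_univ _)).trans le_sup_right), hEz, map_zero]

set_option backward.isDefEq.respectTransparency false in
set_option backward.isDefEq.respectTransparency.types false in
/-- **Fibrewise criterion of flatness at a prime**: the source is flat and finitely presented over the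
base, the middle of finite type. -/
theorem flat_at_of_fibre {A B C : Type u} [CommRing A] [CommRing B] [CommRing C]
    [Algebra A B] [Algebra A C] [Algebra B C] [IsScalarTower A B C] [Algebra.FiniteType A B]
    [Algebra.FinitePresentation A C] [Module.Flat A C] (Q : Ideal C) [Q.IsPrime]
    {L : Type u} [Field L] [Algebra A L] (hker : RingHom.ker (algebraMap A L) = Q.under A)
    (hfib : Module.Flat (B ⊗[A] L) ((B ⊗[A] L) ⊗[B] C)) :
    Module.Flat B (Localization.AtPrime Q) := by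
  classical
  obtain ⟨n, π, hπ⟩ := Algebra.FiniteType.iff_quotient_mvPolynomial''.1 ‹Algebra.FiniteType A B›
  let k : A →+* L := algebraMap A L
  let ρ : MvPolynomial (Fin n) A →+* MvPolynomial (Fin n) L := MvPolynomial.map k
  let I : Ideal (MvPolynomial (Fin n) A) := RingHom.ker π.toRingHom
  obtain ⟨S', hS', hspan⟩ := (Submodule.fg_span_iff_fg_span_finset_subset (R := MvPolynomial (Fin n) L)
    (ρ '' (I : Set (MvPolynomial (Fin n) A)))).1 (IsNoetherian.noetherian _)
  obtain ⟨S, hS, rfl⟩ := Finset.subset_set_image_iff.1 hS'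
  let c : Fin n → C := fun i => algebraMap B C (π (X i))
  have hπc : ∀ f, aeval c f = algebraMap B C (π f) :=
    AlgHom.congr_fun (φ₁ := aeval c) (φ₂ := (IsScalarTower.toAlgHom A B C).comp π) (algHom_ext fun i => by simp [c])
  obtain ⟨A₁, _, _, C₁, _, _, _, _, _, _, _, hC₁, hflat, hpo, t, ht, hlift⟩ := exists_model_data A C c S
    fun f hf => by rw [hπc, show π f = 0 from hS hf, map_zero]
  have hC₁n : IsNoetherianRing C₁ := Algebra.FiniteType.isNoetherianRing A₁ C₁
  choose! f₁ hf₁ hf₁0 using hlift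
  let I₁ : Ideal (MvPolynomial (Fin n) A₁) := Ideal.span (f₁ '' (S : Set (MvPolynomial (Fin n) A)))
  let B₁ := MvPolynomial (Fin n) A₁ ⧸ I₁
  letI : CommRing B₁ := Ideal.Quotient.commRing I₁
  letI : Algebra A₁ B₁ := Ideal.Quotient.algebra A₁
  let iB : MvPolynomial (Fin n) A₁ →+* B := π.toRingHom.comp (MvPolynomial.map (algebraMap A₁ A))
  have hiB : ∀ a ∈ I₁, iB a = 0 := Ideal.span_le.2 (show f₁ '' (S : Set (MvPolynomial (Fin n) A)) ⊆ ((RingHom.ker iB : Ideal (MvPolynomial (Fin n) A₁)) : Set (MvPolynomial (Fin n) A₁)) by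
    rintro _ ⟨f, hf, rfl⟩
    change π (MvPolynomial.map (algebraMap A₁ A) (f₁ f)) = 0
    rw [hf₁ f hf]
    exact hS hf)
  let iC : MvPolynomial (Fin n) A₁ →+* C₁ := (aeval t).toRingHom
  have hiC : ∀ a ∈ I₁, iC a = 0 := Ideal.span_le.2 (show f₁ '' (S : Set (MvPolynomial (Fin n) A)) ⊆ ((RingHom.ker iC : Ideal (MvPolynomial (Fin n) A₁)) : Set (MvPolynomial (Fin n) A₁)) by
    rintro _ ⟨f, hf, rfl⟩
    exact hf₁0 f hf)
  let : Algebra B₁ B := (Ideal.Quotient.lift I₁ iB hiB).toAlgebra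
  let : Algebra B₁ C₁ := (Ideal.Quotient.lift I₁ iC hiC).toAlgebra
  let : Algebra B₁ C := ((algebraMap B C).comp (algebraMap B₁ B)).toAlgebra
  let : Algebra A₁ B := ((algebraMap A B).comp (algebraMap A₁ A)).toAlgebra
  have : IsScalarTower A₁ A B := .of_algebraMap_eq fun x => rfl
  have : IsScalarTower B₁ B C := .of_algebraMap_eq fun x => rfl
  have hB₁ : IsScalarTower A₁ B₁ B := IsScalarTower.of_algebraMap_eq (R := A₁) (S := B₁) (A := B) fun a => by
    change algebraMap A B (algebraMap A₁ A a) = π (MvPolynomial.map (algebraMap A₁ A) (MvPolynomial.C a))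
    rw [map_C, ← π.commutes, MvPolynomial.algebraMap_eq]
  have : IsScalarTower A₁ B₁ C₁ := IsScalarTower.of_algebraMap_eq (R := A₁) (S := B₁) (A := C₁) fun a =>
    ((aeval t).commutes a).symm
  have : IsScalarTower B₁ C₁ C := IsScalarTower.of_algebraMap_eq (R := B₁) (S := C₁) (A := C) fun x => by
    obtain ⟨p, rfl⟩ := Ideal.Quotient.mk_surjective x
    change algebraMap B C (π (MvPolynomial.map (algebraMap A₁ A) p)) = algebraMap C₁ C (aeval t p)
    rw [← hπc, map_aeval_eq (algebraMap A₁ A) (algebraMap C₁ C) (fun a => by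
      rw [← IsScalarTower.algebraMap_apply A₁ C₁ C, IsScalarTower.algebraMap_apply A₁ A C]) t p]
    exact congrArg (fun g => aeval g (MvPolynomial.map (algebraMap A₁ A) p)) (funext fun i => (ht i).symm)
  have hgen : Algebra.adjoin A (Set.range (algebraMap B₁ B)) = ⊤ := by
    rw [eq_top_iff, ← (AlgHom.range_eq_top π).2 hπ, ← Algebra.map_top, ← MvPolynomial.adjoin_range_X,
      AlgHom.map_adjoin]
    refine Algebra.adjoin_mono ?_
    rintro _ ⟨_, ⟨i, rfl⟩, rfl⟩
    exact ⟨Ideal.Quotient.mk I₁ (X i), by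
      change π (MvPolynomial.map (algebraMap A₁ A) (X i)) = π (X i)
      rw [map_X]⟩
  have hpoB : Algebra.IsPushout B₁ B C₁ C := isPushout_of_adjoin (A₁ := A₁) (A := A) hgen
  let : Algebra A₁ L := (k.comp (algebraMap A₁ A)).toAlgebra
  refine flat_of_model_at (A := A) (A₁ := A₁) (P₁ := B₁) (C₁ := C₁) Q k (fun a => rfl) hker ?_
  let rL : L →ₐ[A₁] (B ⊗[A] L) := AlgHom.mk (Algebra.TensorProduct.includeRight : L →ₐ[A] (B ⊗[A] L)).toRingHom fun a => by
    change (1 : B) ⊗ₜ[A] (k (algebraMap A₁ A a)) = (algebraMap A₁ B a) ⊗ₜ[A] (1 : L)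
    rw [IsScalarTower.algebraMap_apply A₁ A B, Algebra.algebraMap_eq_smul_one (A := L),
      ← smul_tmul, ← Algebra.algebraMap_eq_smul_one]
  let φ : (B₁ ⊗[A₁] L) →ₐ[B₁] (B ⊗[A] L) := Algebra.TensorProduct.lift (Algebra.ofId B₁ (B ⊗[A] L)) rL (fun _ _ => Commute.all _ _)
  have hφ : ∀ b l, φ (b ⊗ₜ[A₁] l) = (algebraMap B₁ B b) ⊗ₜ[A] l := fun b l => by
    refine (Algebra.TensorProduct.lift_tmul ..).trans ?_
    change (algebraMap B₁ B b ⊗ₜ[A] (1 : L)) * ((1 : B) ⊗ₜ[A] l) = _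
    rw [Algebra.TensorProduct.tmul_mul_tmul, mul_one, one_mul]
  let iL : L →ₐ[A₁] (B₁ ⊗[A₁] L) := Algebra.TensorProduct.includeRight
  let hom : MvPolynomial (Fin n) L →+* (B₁ ⊗[A₁] L) :=
    eval₂Hom iL.toRingHom fun i => (Ideal.Quotient.mk I₁ (X i)) ⊗ₜ[A₁] (1 : L)
  have hhom : ∀ p : MvPolynomial (Fin n) A₁,
      hom (MvPolynomial.map (algebraMap A₁ L) p) = (Ideal.Quotient.mk I₁ p) ⊗ₜ[A₁] (1 : L) := by
    intro p
    suffices hom.comp (MvPolynomial.map (algebraMap A₁ L)) =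
      (Algebra.TensorProduct.includeLeftRingHom : B₁ →+* (B₁ ⊗[A₁] L)).comp (Ideal.Quotient.mk I₁) from
      RingHom.congr_fun this p
    apply MvPolynomial.ringHom_ext
    · intro a
      simp only [RingHom.comp_apply, map_C, hom, eval₂Hom_C]
      exact (iL.commutes a)
    · intro i
      rw [RingHom.comp_apply, map_X, eval₂Hom_X']
      rfl
  let g : MvPolynomial (Fin n) A →+* (B₁ ⊗[A₁] L) := hom.comp ρ
  have hg : I ≤ RingHom.ker g := by
    intro x hx
    have : ρ x ∈ RingHom.ker hom := by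
      refine (Submodule.span_le.2 ?_ : Submodule.span _ _ ≤ RingHom.ker hom)
        (hspan.symm ▸ Submodule.subset_span (Set.mem_image_of_mem ρ hx))
      rw [Finset.coe_image]
      rintro _ ⟨f, hf, rfl⟩
      change hom (MvPolynomial.map k f) = 0
      rw [← hf₁ f hf, MvPolynomial.map_map, show k.comp (algebraMap A₁ A) = algebraMap A₁ L from rfl, hhom,
        Ideal.Quotient.eq_zero_iff_mem.2 (Ideal.subset_span (Set.mem_image_of_mem f₁ hf)), zero_tmul]
    exact this
  let χB : B →+* (B₁ ⊗[A₁] L) := RingHom.liftOfSurjective π.toRingHom hπ ⟨g, hg⟩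
  have hχB : ∀ p, χB (π p) = g p := RingHom.liftOfRightInverse_comp_apply _ _ _ ⟨g, hg⟩
  let : Algebra A (B₁ ⊗[A₁] L) := (iL.toRingHom.comp k).toAlgebra
  let χB' : B →ₐ[A] (B₁ ⊗[A₁] L) := AlgHom.mk χB fun a => by
    change χB (algebraMap A B a) = iL (k a)
    rw [← π.commutes, hχB]
    simp [g, ρ, hom]
  let χL : L →ₐ[A] (B₁ ⊗[A₁] L) := AlgHom.mk iL.toRingHom fun a => rfl
  let χ : (B ⊗[A] L) →ₐ[A] (B₁ ⊗[A₁] L) := Algebra.TensorProduct.lift χB' χL (fun _ _ => Commute.all _ _)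
  have hχ : ∀ b l, χ (b ⊗ₜ[A] l) = χB b * iL l := fun b l => Algebra.TensorProduct.lift_tmul ..
  have hinj : Function.LeftInverse χ φ := by
    intro x
    induction x using TensorProduct.induction_on with
    | zero => simp
    | tmul b l =>
      obtain ⟨p, rfl⟩ := Ideal.Quotient.mk_surjective b
      rw [hφ, hχ, show algebraMap B₁ B (Ideal.Quotient.mk I₁ p) = π (MvPolynomial.map (algebraMap A₁ A) p) from rfl,
        hχB, show g (MvPolynomial.map (algebraMap A₁ A) p) = hom (MvPolynomial.map (algebraMap A₁ L) p) by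
          change hom (MvPolynomial.map k (MvPolynomial.map (algebraMap A₁ A) p)) = _
          rw [MvPolynomial.map_map]; rfl, hhom]
      change (Ideal.Quotient.mk I₁ p ⊗ₜ[A₁] (1 : L)) * ((1 : B₁) ⊗ₜ[A₁] l) = _
      rw [Algebra.TensorProduct.tmul_mul_tmul, mul_one, one_mul]
    | add x y hx hy => rw [map_add, map_add, hx, hy]
  have hsurj : Function.Surjective φ := by
    have h1 : ∀ b : B, ∃ z, φ z = b ⊗ₜ[A] (1 : L) := by
      intro b
      have hb : b ∈ Algebra.adjoin A (Set.range (algebraMap B₁ B)) := hgen ▸ Algebra.mem_top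
      induction hb using Algebra.adjoin_induction with
      | mem x hx =>
        obtain ⟨b₁, rfl⟩ := hx
        exact ⟨b₁ ⊗ₜ 1, hφ _ _⟩
      | algebraMap a =>
        refine ⟨(1 : B₁) ⊗ₜ k a, ?_⟩
        rw [hφ, map_one, Algebra.algebraMap_eq_smul_one, ← smul_tmul, ← Algebra.algebraMap_eq_smul_one]
      | add x y _ _ hx hy =>
        obtain ⟨z, hz⟩ := hx
        obtain ⟨w, hw⟩ := hy
        exact ⟨z + w, by rw [map_add, hz, hw, add_tmul]⟩
      | mul x y _ _ hx hy =>
        obtain ⟨z, hz⟩ := hx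
        obtain ⟨w, hw⟩ := hy
        exact ⟨z * w, by rw [map_mul, hz, hw, Algebra.TensorProduct.tmul_mul_tmul, mul_one]⟩
    intro x
    induction x using TensorProduct.induction_on with
    | zero => exact ⟨0, map_zero φ⟩
    | tmul b l =>
      obtain ⟨z, hz⟩ := h1 b
      refine ⟨z * ((1 : B₁) ⊗ₜ l), ?_⟩
      rw [map_mul, hz, hφ, map_one, Algebra.TensorProduct.tmul_mul_tmul, mul_one, one_mul]
    | add x y hx hy =>
      obtain ⟨z, hz⟩ := hx
      obtain ⟨w, hw⟩ := hy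
      exact ⟨z + w, by rw [map_add, hz, hw]⟩
  let : Algebra (B₁ ⊗[A₁] L) (B ⊗[A] L) := φ.toRingHom.toAlgebra
  have : IsScalarTower B₁ (B₁ ⊗[A₁] L) (B ⊗[A] L) := IsScalarTower.of_algebraMap_eq (R := B₁) (S := (B₁ ⊗[A₁] L)) (A := (B ⊗[A] L)) fun x => (φ.commutes x).symm
  have : Module.Flat (B ⊗[A] L) ((B ⊗[A] L) ⊗[B₁] C₁) :=
    have := hfib
    Module.Flat.of_linearEquiv
      ((AlgebraTensorModule.congr (LinearEquiv.refl (B ⊗[A] L) (B ⊗[A] L))
          (Algebra.IsPushout.equiv B₁ B C₁ C).toLinearEquiv.symm) ≪≫ₗ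
        AlgebraTensorModule.cancelBaseChange B₁ B (B ⊗[A] L) (B ⊗[A] L) C₁).symm
  have : Module.Flat (B ⊗[A] L) ((B ⊗[A] L) ⊗[(B₁ ⊗[A₁] L)] ((B₁ ⊗[A₁] L) ⊗[B₁] C₁)) :=
    Module.Flat.of_linearEquiv (AlgebraTensorModule.cancelBaseChange B₁ (B₁ ⊗[A₁] L) (B ⊗[A] L) (B ⊗[A] L) C₁)
  have : Module.FaithfullyFlat (B₁ ⊗[A₁] L) (B ⊗[A] L) := Module.FaithfullyFlat.of_linearEquiv (B₁ ⊗[A₁] L) (B₁ ⊗[A₁] L)
    (LinearEquiv.ofBijective (Algebra.linearMap (B₁ ⊗[A₁] L) (B ⊗[A] L)) ⟨hinj.injective, hsurj⟩).symm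
  exact Module.Flat.of_flat_tensorProduct _ _ (B ⊗[A] L)

/-- **Fibrewise criterion of flatness**, ring form. -/
theorem flat_of_fibres_fp {A B C : Type u} [CommRing A] [CommRing B] [CommRing C]
    [Algebra A B] [Algebra A C] [Algebra B C] [IsScalarTower A B C] [Algebra.FiniteType A B]
    [Algebra.FinitePresentation A C] [Module.Flat A C]
    (hfib : ∀ (L : Type u) [Field L] [Algebra A L],
      Module.Flat (B ⊗[A] L) ((B ⊗[A] L) ⊗[B] C)) :
    Module.Flat B C := by
  apply Module.flat_of_isLocalized_maximal C C (fun Q => Localization.AtPrime Q)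
    (fun Q => Algebra.linearMap C (Localization.AtPrime Q))
  intro Q _
  exact flat_at_of_fibre Q (L := (Q.under A).ResidueField) (Ideal.ker_algebraMap_residueField _) (hfib _)

end Groth.Agent.FibreFlat
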