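import Groth.Agent.FibFlat.Descent
import Groth.Agent.FlatSpread.Model
import Mathlib.RingTheory.TensorProduct.DirectLimitFG
import Mathlib.RingTheory.FinitePresentation

/-!
# The fibrewise criterion of flatness without Noetherian hypotheses
-/

universe u

open TensorProduct

namespace Groth.Agent.FibreFlat

attribute [local instance] Algebra.TensorProduct.rightAlgebra

theorem localizationSelf_flat {P T : Type u} [CommRing P] [CommRing T] [Algebra P T] [IsLocalRing T]
    [Module.Flat P (Localization.AtPrime (IsLocalRing.maximalIdeal T))] : Module.Flat P T := by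
  let e := IsLocalization.atUnits T (IsLocalRing.maximalIdeal T).primeCompl
    (S := Localization.AtPrime (IsLocalRing.maximalIdeal T)) fun x hx => (IsUnit.mem_submonoid_iff x).2 (by simpa using hx)
  exact Module.Flat.of_linearEquiv (e.restrictScalars P).toLinearEquiv

/-- ring maps from a generated algebra are determined on generators -/
theorem ringHom_ext_of_adjoin {A B D : Type u} [CommRing A] [CommRing B] [CommRing D] [Algebra A B]
    {s : Set B} (hs : Algebra.adjoin A s = ⊤) {f g : B →+* D}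
    (h1 : f.comp (algebraMap A B) = g.comp (algebraMap A B)) (h2 : ∀ x ∈ s, f x = g x) : f = g := by
  let : Algebra A D := (f.comp (algebraMap A B)).toAlgebra
  let f' : B →ₐ[A] D := AlgHom.mk f fun _ => rfl
  let g' : B →ₐ[A] D := AlgHom.mk g fun r => (RingHom.congr_fun h1 r).symm
  exact congrArg AlgHom.toRingHom (AlgHom.ext_of_adjoin_eq_top hs h2 : f' = g')

theorem isPushout_of_adjoin {A₁ A B₁ B C₁ C : Type u} [CommRing A₁] [CommRing A] [CommRing B₁]
    [CommRing B] [CommRing C₁] [CommRing C] [Algebra A₁ A] [Algebra A₁ B₁] [Algebra A₁ C₁] [Algebra A₁ C]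
    [Algebra A B] [Algebra A C] [Algebra B C] [Algebra B₁ B] [Algebra B₁ C₁] [Algebra B₁ C]
    [Algebra C₁ C] [Algebra A₁ B] [IsScalarTower A₁ A B] [IsScalarTower A₁ B₁ B] [IsScalarTower A₁ B₁ C₁]
    [IsScalarTower A B C] [IsScalarTower A₁ A C] [IsScalarTower A₁ C₁ C] [IsScalarTower B₁ B C]
    [IsScalarTower B₁ C₁ C] [Algebra.IsPushout A₁ A C₁ C]
    (hs : Algebra.adjoin A (Set.range (algebraMap B₁ B)) = ⊤) : Algebra.IsPushout B₁ B C₁ C := by
  let D := B ⊗[B₁] C₁
  let eC : A ⊗[A₁] C₁ ≃ₐ[A] C := Algebra.IsPushout.equiv A₁ A C₁ C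
  let φ : D →ₐ[B] C := Algebra.TensorProduct.lift (Algebra.ofId B C) (IsScalarTower.toAlgHom B₁ C₁ C)
    (fun _ _ => Commute.all _ _)
  let ψ₀ : A ⊗[A₁] C₁ →ₐ[A] D := Algebra.TensorProduct.lift (Algebra.ofId A D)
    ((Algebra.TensorProduct.includeRight : C₁ →ₐ[B₁] D).restrictScalars A₁) (fun _ _ => Commute.all _ _)
  let ψ : C →ₐ[A] D := ψ₀.comp eC.symm.toAlgHom
  have hψ : ∀ c : C₁, ψ (algebraMap C₁ C c) = (1 : B) ⊗ₜ[B₁] c := fun c => by
    have : eC ((1 : A) ⊗ₜ c) = algebraMap C₁ C c := by simp [eC, Algebra.IsPushout.equiv_tmul]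
    rw [← this]
    simp [ψ, ψ₀]
  have hφ : ∀ (b : B) (c : C₁), φ (b ⊗ₜ[B₁] c) = algebraMap B C b * algebraMap C₁ C c :=
    fun b c => Algebra.TensorProduct.lift_tmul _ _ _ b c
  have hψA : ∀ a : A, ψ (algebraMap A C a) = algebraMap A B a ⊗ₜ[B₁] (1 : C₁) := fun a => ψ.commutes a
  have h1 : φ.toRingHom.comp ψ.toRingHom = RingHom.id C := by
    have : (φ.restrictScalars A).comp ψ₀ = eC.toAlgHom := by
      apply Algebra.TensorProduct.ext
      · ext
      · ext c
        change φ (ψ₀ ((1 : A) ⊗ₜ[A₁] c)) = eC ((1 : A) ⊗ₜ[A₁] c)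
        rw [show ψ₀ ((1 : A) ⊗ₜ[A₁] c) = (1 : B) ⊗ₜ[B₁] c by simp [ψ₀], hφ]
        simp [eC, Algebra.IsPushout.equiv_tmul]
    ext c
    obtain ⟨z, rfl⟩ := eC.surjective c
    have := AlgHom.congr_fun this z
    simpa [ψ] using this
  have h2 : ψ.toRingHom.comp φ.toRingHom = RingHom.id D := by
    apply Algebra.TensorProduct.ringHom_ext
    · refine ringHom_ext_of_adjoin hs ?_ ?_
      · ext a
        change ψ (φ (algebraMap A B a ⊗ₜ[B₁] (1 : C₁))) = algebraMap A B a ⊗ₜ[B₁] (1 : C₁)
        rw [hφ, map_one, mul_one, ← IsScalarTower.algebraMap_apply A B C, hψA]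
      · rintro _ ⟨b, rfl⟩
        change ψ (φ (algebraMap B₁ B b ⊗ₜ[B₁] (1 : C₁))) = algebraMap B₁ B b ⊗ₜ[B₁] (1 : C₁)
        rw [hφ, map_one, mul_one, ← IsScalarTower.algebraMap_apply B₁ B C,
          IsScalarTower.algebraMap_apply B₁ C₁ C, hψ]
        rw [Algebra.algebraMap_eq_smul_one b, Algebra.algebraMap_eq_smul_one (A := B) b, smul_tmul]
    · ext c
      change ψ (φ ((1 : B) ⊗ₜ[B₁] c)) = (1 : B) ⊗ₜ[B₁] c
      rw [hφ, map_one, one_mul, hψ]
  let e : D ≃ₐ[B] C := AlgEquiv.ofBijective φ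
    ⟨Function.LeftInverse.injective (g := ψ) (RingHom.congr_fun h2),
      Function.RightInverse.surjective (g := ψ) (RingHom.congr_fun h1)⟩
  exact Algebra.IsPushout.of_equiv (S' := D) e (RingHom.ext fun x => by
    change φ ((1 : B) ⊗ₜ[B₁] x) = algebraMap C₁ C x
    rw [hφ, map_one, one_mul])

variable {A A₁ P P₁ C C₁ : Type u} [CommRing A] [CommRing A₁] [CommRing P] [CommRing P₁]
  [CommRing C] [CommRing C₁] [Algebra A₁ A] [Algebra A₁ P₁] [Algebra P₁ C₁] [Algebra A₁ C₁]
  [IsScalarTower A₁ P₁ C₁]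
  [IsNoetherianRing P₁] [IsNoetherianRing C₁] [Module.Flat A₁ C₁]
  [Algebra A P] [Algebra P C] [Algebra A C] [IsScalarTower A P C] [Algebra P₁ P] [Algebra A₁ P]
  [IsScalarTower A₁ A P] [IsScalarTower A₁ P₁ P] [Algebra C₁ C] [Algebra P₁ C] [Algebra A₁ C]
  [IsScalarTower P₁ P C] [IsScalarTower P₁ C₁ C] [IsScalarTower A₁ A C] [IsScalarTower A₁ C₁ C]

/-- The fibrewise criterion at a prime, given a noetherian model. -/
theorem flat_of_model_at [Algebra.IsPushout P₁ P C₁ C] (Q : Ideal C) [Q.IsPrime]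
    {L : Type u} [Field L] [Algebra A₁ L] (k : A →+* L) (hk : ∀ a, k (algebraMap A₁ A a) = algebraMap A₁ L a)
    (hker : RingHom.ker k = Q.under A)
    (hfib : Module.Flat (P₁ ⊗[A₁] L) ((P₁ ⊗[A₁] L) ⊗[P₁] C₁)) :
    Module.Flat P (Localization.AtPrime Q) := by
  let q₁ : Ideal C₁ := Q.under C₁
  let pA : Ideal A := Q.under A
  let p₁ : Ideal A₁ := q₁.under A₁
  have hp : p₁ = RingHom.ker (algebraMap A₁ L) := by
    have : p₁ = pA.under A₁ := by simp only [p₁, q₁, pA, Ideal.under_under]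
    rw [this]
    ext a
    change algebraMap A₁ A a ∈ pA ↔ algebraMap A₁ L a = 0
    rw [← hk, show pA = RingHom.ker k from hker.symm, RingHom.mem_ker]
  have : q₁.LiesOver p₁ := ⟨rfl⟩
  let K := p₁.ResidueField
  let f : K →+* L := Ideal.ResidueField.lift p₁ (algebraMap A₁ L) (le_of_eq hp)
    (fun a ha => by
      change IsUnit (algebraMap A₁ L a)
      rw [isUnit_iff_ne_zero]
      exact fun h => ha (hp ▸ h))
  let : Algebra K L := f.toAlgebra
  have : IsScalarTower A₁ K L := .of_algebraMap_eq fun x => (Ideal.ResidueField.lift_algebraMap ..).symm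
  have hT : Module.Flat P₁ (Localization.AtPrime q₁) :=
    FibFlat.flat_localization_of_fibre q₁ p₁ (FibFlat.flat_fibre_descent K L hfib)
  let T := Localization.AtPrime q₁
  let M := C ⊗[C₁] T
  have : Module.Flat P M := by
    have : Module.Flat P (P ⊗[P₁] T) := inferInstance
    exact Module.Flat.of_linearEquiv (Algebra.IsPushout.cancelBaseChange P₁ P C₁ C T)
  have hM : IsLocalization (Algebra.algebraMapSubmonoid C q₁.primeCompl) M := inferInstance
  have hle : Algebra.algebraMapSubmonoid C q₁.primeCompl ≤ Q.primeCompl := by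
    rintro _ ⟨x, hx, rfl⟩
    exact hx
  let e : M →+* Localization.AtPrime Q := IsLocalization.lift (M := Algebra.algebraMapSubmonoid C q₁.primeCompl)
    (S := M) (g := algebraMap C (Localization.AtPrime Q)) (fun y => IsLocalization.map_units _ (⟨y, hle y.2⟩ : Q.primeCompl))
  let : Algebra M (Localization.AtPrime Q) := e.toAlgebra
  have : IsScalarTower C M (Localization.AtPrime Q) :=
    IsScalarTower.of_algebraMap_eq (R := C) (S := M) (A := Localization.AtPrime Q) fun x => (IsLocalization.lift_eq _ x).symm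
  have := IsLocalization.isLocalization_of_submonoid_le M (Localization.AtPrime Q)
    (Algebra.algebraMapSubmonoid C q₁.primeCompl) Q.primeCompl hle
  have : Module.Flat M (Localization.AtPrime Q) := IsLocalization.flat _ (Q.primeCompl.map (algebraMap C M))
  have : IsScalarTower P M (Localization.AtPrime Q) := IsScalarTower.of_algebraMap_eq (R := P) (S := M) (A := Localization.AtPrime Q) fun x => by
    rw [IsScalarTower.algebraMap_apply P C (Localization.AtPrime Q),
      IsScalarTower.algebraMap_apply P C M, ← IsScalarTower.algebraMap_apply C M]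
  exact Module.Flat.trans P M _

end Groth.Agent.FibreFlat
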